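import Mathlib
import Cfsg.Agent.Base
import Cfsg.Agent.Lib.FGS83.BaseE
import Cfsg.Agent.Lib.H81.ClassNum

/-! Class numbers of solvable groups: the invariant carried through the module induction (helper90). -/

set_option autoImplicit false

universe u

namespace H90.KC

open Subgroup MulAction H83.Base

/-- lower bounds for the commuting probability of a solvable irreducible group of dimension `n`
over the field with `Q` elements -/
def Good (Q n : ℕ) (G : Type*) [Group G] : Prop :=
  (n = 1 → 1 ≤ commProb G) ∧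
  (n = 2 → 1 / 5 ≤ commProb G ∨ (1 / 6 ≤ commProb G ∧ ∃ z, z ∣ Q - 1 ∧ Nat.card G = 24 * z)) ∧
  (3 ≤ n → (167 / 1000 : ℚ) * (Q : ℚ) ^ 2 ≤ (Q : ℚ) ^ n * commProb G)

theorem Good.sq_le {Q n : ℕ} {G : Type*} [Group G] (h : Good Q n G) (hn : 2 ≤ n) :
    (Q : ℚ) ^ 2 / 6 ≤ (Q : ℚ) ^ n * commProb G := by
  have h0 : (0 : ℚ) ≤ (Q : ℚ) ^ 2 := by positivity
  rcases hn.eq_or_lt with rfl | h3
  · have : 1 / 6 ≤ commProb G := by
      rcases h.2.1 rfl with h1 | h1
      · linarith
      · exact h1.1
    nlinarith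
  · have := h.2.2 h3
    linarith

theorem Good.le {Q n : ℕ} {G : Type*} [Group G] (h : Good Q n G) (hQ : 11 ≤ Q) (hn : 1 ≤ n) :
    (Q : ℚ) ≤ (Q : ℚ) ^ n * commProb G := by
  have h0 : (11 : ℚ) ≤ Q := by exact_mod_cast hQ
  rcases hn.eq_or_lt with rfl | h2
  · have := h.1 rfl
    nlinarith
  · have := h.sq_le h2
    nlinarith

theorem Good.of_comm {Q : ℕ} {G : Type*} [Group G] [Finite G] (h : ∀ x y : G, x * y = y * x) :
    Good Q 2 G := by
  have : commProb G = 1 := commProb_eq_one_iff.2 ⟨⟨h⟩⟩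
  refine ⟨fun h => by omega, fun _ => Or.inl (by rw [this]; norm_num), fun h => by omega⟩

/-- the faithful image of an action -/
theorem exists_faithful (G : Type*) (V : Type u) [Group G] [Finite G] [AddCommGroup V]
    [DistribMulAction G V] : ∃ (H : Type u) (_ : Group H) (_ : Finite H)
      (_ : DistribMulAction H V) (ψ : G →* H), Function.Surjective ψ ∧
        (∀ g (v : V), ψ g • v = g • v) ∧ FaithfulSMul H V := by
  let φ := (DistribMulAction.toModuleAut ℤ V : G →* V ≃ₗ[ℤ] V).rangeRestrict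
  have hφ : Function.Surjective φ := MonoidHom.rangeRestrict_surjective _
  exact ⟨(DistribMulAction.toModuleAut ℤ V : G →* V ≃ₗ[ℤ] V).range, inferInstance,
    Finite.of_surjective φ hφ, inferInstance, φ, hφ, fun _ _ => rfl, inferInstance⟩

theorem force_eq : True := by
  have := @Good.eq_1.{0}
  trivial

end H90.KC
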