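import Mathlib
import Cfsg.Agent.Base
import Cfsg.Agent.Lib.KCl.Defs

set_option autoImplicit false
set_option linter.unusedSectionVars false

universe u

namespace H90.KC

open Subgroup MulAction H83.Base
open scoped commutatorElement

variable {G : Type u} [Group G] [Finite G] {K : Type*} [Field K] [Finite K] {Λ S B : Subgroup G}

theorem mem_B (h : Pre K Λ S) [B.Normal] (hΛ : B ≤ Λ) (hS : S ≤ B)
    (hc : ∀ x ∈ B, ∀ y ∈ B, ⁅x, y⁆ ∈ S) (hcen : ∀ g ∈ Λ, (∀ x ∈ B, Commute g x) → g ∈ S)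
    {g : G} (hg : g ∈ Λ) (hgB : ∀ b ∈ B, ⁅g, b⁆ ∈ S) : g ∈ B := by
  obtain ⟨a, ha, h1⟩ := h.dual hΛ hΛ hc hgB fun d hd hd' =>
    h.cen d (h.rad hΛ hd fun y hy => (hd' y hy).symm) g hg
  have := mul_mem ha (hS (hcen _ (mul_mem (inv_mem (hΛ ha)) hg) h1))
  rwa [mul_inv_cancel_left] at this

theorem ACT.exists_W (S B : Subgroup G) [S.Normal] [B.Normal]
    (hc : ∀ x ∈ B, ∀ y ∈ B, ⁅x, y⁆ ∈ S) :
    ∃ (W : Type u) (_ : AddCommGroup W) (_ : Finite W) (_ : DistribMulAction G W) (π : B → W),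
      Function.Surjective π ∧ (∀ a b, π (a * b) = π a + π b) ∧ (∀ b, π b = 0 ↔ b.1 ∈ S) ∧
      (∀ (g : G) b, g • π b = π (MulAut.conjNormal g b)) ∧ Nat.card W = S.relIndex B := by
  let S' := S.subgroupOf B
  have hcomm : ∀ a b : B ⧸ S', a * b = b * a := fun a b => by
    obtain ⟨a, rfl⟩ := QuotientGroup.mk_surjective a
    obtain ⟨b, rfl⟩ := QuotientGroup.mk_surjective b
    rw [← commutatorElement_eq_one_iff_mul_comm]
    exact (QuotientGroup.eq_one_iff (⁅a, b⁆ : B)).2 (hc a a.2 b b.2)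
  letI : CommGroup (B ⧸ S') := { (inferInstance : Group (B ⧸ S')) with mul_comm := hcomm }
  let φ : G → (B ⧸ S') →* (B ⧸ S') := fun g =>
    QuotientGroup.map S' S' (MulAut.conjNormal g : B ≃* B).toMonoidHom fun b hb =>
      ‹S.Normal›.conj_mem b.1 hb g
  have hφ : ∀ g (b : B), φ g b = (MulAut.conjNormal g b : B) := fun g b => rfl
  letI : DistribMulAction G (Additive (B ⧸ S')) :=
    { smul := fun g w => Additive.ofMul (φ g w.toMul)
      one_smul := fun w => by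
        obtain ⟨b, hb⟩ := QuotientGroup.mk_surjective w.toMul
        change Additive.ofMul (φ 1 w.toMul) = w
        rw [← hb, hφ, map_one, MulAut.one_apply, hb]; rfl
      mul_smul := fun g k w => by
        obtain ⟨b, hb⟩ := QuotientGroup.mk_surjective w.toMul
        change Additive.ofMul (φ (g * k) w.toMul) = Additive.ofMul (φ g (φ k w.toMul))
        rw [← hb, hφ, hφ, hφ, map_mul, MulAut.mul_apply]
      smul_zero := fun g => congrArg Additive.ofMul (map_one (φ g))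
      smul_add := fun g v w => congrArg Additive.ofMul (map_mul (φ g) v.toMul w.toMul) }
  exact ⟨Additive (B ⧸ S'), inferInstance, inferInstance, inferInstance,
    fun b => Additive.ofMul (b : B ⧸ S'), QuotientGroup.mk_surjective, fun a b => rfl,
    fun b => QuotientGroup.eq_one_iff b, fun g b => rfl, rfl⟩

theorem act (h : Pre K Λ S) (hs : Group.IsSolvable G) [B.Normal] (hΛ : B ≤ Λ) (hS : S ≤ B)
    (hc : ∀ x ∈ B, ∀ y ∈ B, ⁅x, y⁆ ∈ S) (hcen : ∀ g ∈ Λ, (∀ x ∈ B, Commute g x) → g ∈ S) :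
    ∃ (Q W : Type u) (_ : Group Q) (_ : Finite Q) (_ : AddCommGroup W) (_ : Finite W)
      (_ : DistribMulAction Q W) (_ : FaithfulSMul Q W) (Q₀ : Subgroup Q)
      (β : W →+ W →+ Additive Kˣ),
      Group.IsSolvable Q ∧
      (∀ U : AddSubgroup W, Invt Q U → ∃ U' : AddSubgroup W, Invt Q U' ∧ U ⊓ U' = ⊥ ∧ U ⊔ U' = ⊤) ∧
      Nat.card W = S.relIndex B ∧ Nat.card Q₀ = B.relIndex Λ ∧ (∀ x, β x x = 0) ∧
      (∀ x, (∀ y, β x y = 0) → x = 0) ∧ ∀ g ∈ Q₀, ∀ x y, β (g • x) (g • y) = β x y := by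
  haveI := h.nS
  haveI := h.nΛ
  obtain ⟨W, _, _, _, π, hπ, hmul, h0, hsm, hW⟩ := ACT.exists_W S B hc
  obtain ⟨Q, _, _, _, ψ, hψ, hψs, hf⟩ := exists_faithful G W
  have hone : π 1 = 0 := (h0 1).2 (one_mem _)
  have hinv : ∀ a, π a⁻¹ = -π a := fun a => by
    rw [eq_neg_iff_add_eq_zero, ← hmul, inv_mul_cancel, hone]
  have heq : ∀ a b, π a = π b ↔ (a⁻¹ * b : B).1 ∈ S := fun a b => by
    rw [← h0, hmul, hinv, neg_add_eq_zero]
  obtain ⟨χ, hχ⟩ := h.emb
  let χ' := χ.toHomUnits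
  have hχ' : Function.Injective χ' := fun a b e => hχ (congrArg Units.val e)
  let f : B → B → Kˣ := fun a b => χ' ⟨⁅a.1, b.1⁆, hc _ a.2 _ b.2⟩
  have f1 : ∀ a b, f a b = 1 ↔ Commute a.1 b.1 := fun a b => by
    rw [← commutatorElement_eq_one_iff_commute, ← map_one χ', hχ'.eq_iff, Subtype.ext_iff]; rfl
  have fr : ∀ a b c, f a (b * c) = f a b * f a c := fun a b c => by
    simp only [f]
    rw [← map_mul]; congr 1
    exact Subtype.ext (H5.commutator_mul_right_of_commute (h.cen _ (hc _ a.2 _ c.2) _ (hΛ b.2)))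
  have fl : ∀ a b c, f (a * b) c = f a c * f b c := fun a b c => by
    simp only [f]
    rw [mul_comm, ← map_mul]; congr 1
    exact Subtype.ext (H5.commutator_mul_left_of_commute (h.cen _ (hc _ b.2 _ c.2) _ (hΛ a.2)))
  choose s hs' using hπ
  let β0 : W → W → Additive Kˣ := fun x y => Additive.ofMul (f (s x) (s y))
  have hβ0 : ∀ a b, β0 (π a) (π b) = Additive.ofMul (f a b) := fun a b => by
    have e1 := (heq _ _).1 (hs' (π a))
    have e2 := (heq _ _).1 (hs' (π b))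
    simp only [β0]
    conv_rhs => rw [← mul_inv_cancel_left (s (π a)) a, ← mul_inv_cancel_left (s (π b)) b, fl,
      (f1 _ _).2 (h.cen _ e1 _ (hΛ (Subtype.prop _))).symm, mul_one, fr,
      (f1 _ _).2 (h.cen _ e2 _ (hΛ (Subtype.prop _))), mul_one]
  let β : W →+ W →+ Additive Kˣ := AddMonoidHom.mk' (fun x => AddMonoidHom.mk' (β0 x) fun y z => by
      rw [← hs' x, ← hs' y, ← hs' z, ← hmul, hβ0, hβ0, hβ0, fr, ofMul_mul]) fun x y => by
    ext z : 1
    change β0 (x + y) z = β0 x z + β0 y z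
    rw [← hs' x, ← hs' y, ← hs' z, ← hmul, hβ0, hβ0, hβ0, fl, ofMul_mul]
  have hβ : ∀ a b, β (π a) (π b) = Additive.ofMul (f a b) := hβ0
  have triv : ∀ g : G, ψ g = 1 ↔ ∀ b ∈ B, ⁅g, b⁆ ∈ S := fun g => by
    have key : ∀ b : B, g • π b = π b ↔ ⁅g, b.1⁆ ∈ S := fun b => by
      rw [hsm, eq_comm, heq, coe_mul, ← ‹S.Normal›.mem_comm_iff]
      simp [commutatorElement_def]
    constructor
    · intro e b hb
      rw [← key ⟨b, hb⟩, ← hψs, e, one_smul]
    · intro e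
      refine FaithfulSMul.eq_of_smul_eq_smul (α := W) fun w => ?_
      rw [one_smul, hψs, ← hs' w, key]
      exact e _ (s w).2
  refine ⟨Q, W, inferInstance, inferInstance, inferInstance, inferInstance, inferInstance, hf,
    Λ.map ψ, β, Group.isSolvable_of_surjective hψ, fun U hU => ?_, hW, ?_, fun x => ?_,
    fun x hx => ?_, ?_⟩
  · let D : Subgroup G :=
      { carrier := {g | ∃ hg : g ∈ B, π ⟨g, hg⟩ ∈ U}
        mul_mem' := fun {a b} ⟨ha, ha'⟩ ⟨hb, hb'⟩ => ⟨mul_mem ha hb, by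
          have := add_mem ha' hb'
          rwa [← hmul] at this⟩
        one_mem' := ⟨one_mem _, by
          have : π 1 ∈ U := by rw [hone]; exact zero_mem _
          exact this⟩
        inv_mem' := fun {a} ⟨ha, ha'⟩ => ⟨inv_mem ha, by
          have := neg_mem ha'
          rwa [← hinv] at this⟩ }
    have hDB : D ≤ B := fun _ hx => hx.1
    have mD : ∀ b : B, b.1 ∈ D ↔ π b ∈ U := fun b => ⟨fun h => h.2, fun h => ⟨b.2, h⟩⟩
    haveI hD : D.Normal := ⟨fun x ⟨hx, hx'⟩ g => (mD (MulAut.conjNormal g ⟨x, hx⟩)).2 (by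
      rw [← hsm, ← hψs]; exact hU _ _ hx')⟩
    let U' : AddSubgroup W :=
      { carrier := {w | ∃ b : B, (∀ y ∈ D, Commute b.1 y) ∧ π b = w}
        add_mem' := by
          rintro _ _ ⟨a, ha, rfl⟩ ⟨b, hb, rfl⟩
          exact ⟨a * b, fun y hy => (ha y hy).mul_left (hb y hy), hmul a b⟩
        zero_mem' := ⟨1, fun y _ => Commute.one_left y, hone⟩
        neg_mem' := by
          rintro _ ⟨a, ha, rfl⟩
          exact ⟨a⁻¹, fun y hy => (ha y hy).inv_left, hinv a⟩ }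
    refine ⟨U', ?_, ?_, ?_⟩
    · rintro q _ ⟨b, hb, rfl⟩
      obtain ⟨g, rfl⟩ := hψ q
      refine ⟨MulAut.conjNormal g b, fun y hy => ?_, by rw [hψs, hsm]⟩
      have := hb _ (hD.conj_mem y hy g⁻¹)
      change g * b * g⁻¹ * y = y * (g * b * g⁻¹)
      calc g * b * g⁻¹ * y = g * (b * (g⁻¹ * y * g⁻¹⁻¹)) * g⁻¹ := by group
        _ = _ := by rw [this.eq]; group
    · rw [eq_bot_iff]
      rintro _ ⟨hw, b, hb, rfl⟩
      exact AddSubgroup.mem_bot.2 ((h0 b).2 (h.rad (hDB.trans hΛ) ((mD b).2 hw) hb))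
    · rw [eq_top_iff]
      intro w _
      obtain ⟨d, hd, hd'⟩ := h.split hΛ hc hDB (s w).2
      rw [← hs' w, ← mul_inv_cancel_left ⟨d, hDB hd⟩ (s w), hmul]
      exact AddSubgroup.add_mem_sup hd.2 ⟨_, hd', rfl⟩
  · have e1 : (ψ.comp Λ.subtype).ker = B.subgroupOf Λ := by
      ext g
      rw [MonoidHom.mem_ker, mem_subgroupOf]
      exact (triv g).trans ⟨mem_B h hΛ hS hc hcen g.2, fun hg b hb => hc _ hg _ hb⟩
    rw [relIndex, ← e1, index_ker, MonoidHom.range_comp, range_subtype]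
  · rw [← hs' x, hβ, (f1 _ _).2 (Commute.refl _)]; rfl
  · rw [← hs' x, h0]
    refine h.rad hΛ (s x).2 fun y hy => (f1 _ ⟨y, hy⟩).1 ?_
    have := hx (π ⟨y, hy⟩)
    rw [← hs' x, hβ] at this
    exact this
  · rintro _ ⟨g, hg, rfl⟩ x y
    rw [← hs' x, ← hs' y, hψs, hψs, hsm, hsm, hβ, hβ]
    refine congrArg (fun t => Additive.ofMul (χ' t)) (Subtype.ext ?_)
    change ⁅g * (s x).1 * g⁻¹, g * (s y).1 * g⁻¹⁆ = ⁅(s x).1, (s y).1⁆
    rw [← conjugate_commutatorElement, (h.cen _ (hc _ (s x).2 _ (s y).2) g hg).eq,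
      mul_inv_cancel_right]

end H90.KC
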