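import Mathlib
import Cfsg.Agent.Base
import Cfsg.Agent.Lib.KCl.Defs

set_option autoImplicit false
set_option linter.unusedSectionVars false

universe u

namespace H90.KC

open Subgroup MulAction H83.Base
open scoped commutatorElement

theorem AR.mono3 {N M : ℕ} {c : ℚ} (h : 3 * (N : ℚ) - 2 ≤ c * (N : ℚ) ^ 2) (h1 : 1 ≤ N)
    (h2 : N ≤ M) (h3 : 2 ≤ M) : 3 * (M : ℚ) - 2 ≤ c * (M : ℚ) ^ 2 := by
  have e1 : (1 : ℚ) ≤ N := by exact_mod_cast h1
  have e2 : (N : ℚ) ≤ M := by exact_mod_cast h2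
  have e3 : (2 : ℚ) ≤ M := by exact_mod_cast h3
  have e4 : (0 : ℚ) ≤ 3 * N * M - 2 * M - 2 * N := by
    nlinarith [mul_nonneg (sub_nonneg.2 e1) (sub_nonneg.2 e3)]
  have e5 := mul_nonneg (sub_nonneg.2 e2) e4
  have e6 := mul_le_mul_of_nonneg_right h (sq_nonneg (M : ℚ))
  refine le_of_mul_le_mul_right (a := (N : ℚ) ^ 2) ?_ (by positivity)
  nlinarith

theorem AR.mono13 {N M : ℕ} {c : ℚ} (h : 13 * (N : ℚ) - 8 ≤ 4 * (c * (N : ℚ) ^ 2)) (h1 : 2 ≤ N)
    (h2 : N ≤ M) : 13 * (M : ℚ) - 8 ≤ 4 * (c * (M : ℚ) ^ 2) := by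
  have e1 : (2 : ℚ) ≤ N := by exact_mod_cast h1
  have e2 : (N : ℚ) ≤ M := by exact_mod_cast h2
  have e4 : (0 : ℚ) ≤ 13 * N * M - 8 * M - 8 * N := by
    nlinarith [mul_nonneg (sub_nonneg.2 e1) (sub_nonneg.2 (e1.trans e2))]
  have e5 := mul_nonneg (sub_nonneg.2 e2) e4
  have e6 := mul_le_mul_of_nonneg_right h (sq_nonneg (M : ℚ))
  refine le_of_mul_le_mul_right (a := (N : ℚ) ^ 2) ?_ (by positivity)
  nlinarith

theorem AR.pw1 (b : ℕ) : (b + 1) ^ 2 ≤ 11 ^ b := by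
  induction b with
  | zero => simp
  | succ b ih => rw [pow_succ 11]; nlinarith [Nat.zero_le b, Nat.zero_le (b ^ 2)]

theorem AR.pw2 (b : ℕ) : 2 * (b + 2) ^ 2 ≤ 11 ^ (b + 1) := by
  induction b with
  | zero => simp
  | succ b ih => rw [pow_succ 11]; nlinarith [Nat.zero_le b, Nat.zero_le (b ^ 2)]

theorem AR.pw3 (b : ℕ) : (b + 3) ^ 2 ≤ 11 ^ (b + 1) := by
  induction b with
  | zero => simp
  | succ b ih => rw [pow_succ 11]; nlinarith [Nat.zero_le b, Nat.zero_le (b ^ 2)]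

theorem AR.pw8 (b : ℕ) : 167 * (b + 8) ^ 8 ≤ 2000 * 11 ^ (b + 6) := by
  induction b with
  | zero => norm_num
  | succ b ih =>
    have h1 : (8 * (b + 1 + 8)) ^ 8 ≤ (9 * (b + 8)) ^ 8 := Nat.pow_le_pow_left (by omega) 8
    rw [mul_pow, mul_pow] at h1
    rw [show b + 1 + 6 = b + 6 + 1 by omega, pow_succ 11]
    omega

theorem AR.big {Q k a j m n : ℕ} (hQ : 11 ≤ Q) (h : k * a ^ 2 ≤ 11 ^ m) (hn : m + 2 + j ≤ n) :
    a ^ 2 * Q ^ 2 * (k * 11 ^ j) ≤ Q ^ n :=
  calc a ^ 2 * Q ^ 2 * (k * 11 ^ j) = k * a ^ 2 * Q ^ 2 * 11 ^ j := by ring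
    _ ≤ Q ^ m * Q ^ 2 * Q ^ j := Nat.mul_le_mul (Nat.mul_le_mul_right _
        (h.trans (Nat.pow_le_pow_left hQ m))) (Nat.pow_le_pow_left hQ j)
    _ = Q ^ (m + 2 + j) := by ring
    _ ≤ _ := Nat.pow_le_pow_right (by omega) hn

theorem AR.fin {Q a n P : ℕ} {c c' : ℚ} (hc : c' ≤ c * (a : ℚ) ^ 2) (hc0 : 0 ≤ c)
    (h : a ^ 2 * Q ^ 2 * P ≤ Q ^ n) (h2 : (167 / 1000 : ℚ) ≤ P * c') :
    (167 / 1000 : ℚ) * (Q : ℚ) ^ 2 ≤ (Q : ℚ) ^ n * c := by
  have e1 : (a : ℚ) ^ 2 * (Q : ℚ) ^ 2 * P ≤ (Q : ℚ) ^ n := by exact_mod_cast h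
  calc (167 / 1000 : ℚ) * (Q : ℚ) ^ 2 ≤ P * (c * (a : ℚ) ^ 2) * (Q : ℚ) ^ 2 :=
        mul_le_mul_of_nonneg_right (h2.trans (mul_le_mul_of_nonneg_left hc (by positivity)))
          (by positivity)
    _ = (a : ℚ) ^ 2 * (Q : ℚ) ^ 2 * P * c := by ring
    _ ≤ _ := mul_le_mul_of_nonneg_right e1 hc0

theorem arith {Q a d e f N : ℕ} {c c' : ℚ} (hQ : 11 ≤ Q) (ha : 1 ≤ a) (he : 1 ≤ e) (hed : e ≤ d)
    (hf : 1 ≤ f) (hN : N = e ^ 2 * f) (hc : c' ≤ c * (a : ℚ) ^ 2)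
    (h3 : 3 * (N : ℚ) - 2 ≤ c' * (N : ℚ) ^ 2)
    (h13 : f = 1 ∨ 13 * (N : ℚ) - 8 ≤ 4 * (c' * (N : ℚ) ^ 2))
    (b6 : f ≤ e ^ 6) (b4 : Squarefree e → f ≤ e ^ 4) (b2 : e = 2 → f ∣ 6)
    (b3 : e = 3 → f ≤ 24 ∧ 3 ∣ Q ^ a - 1) (b16 : e = 4 → f ≤ 144) :
    (a * d = 1 → 1 ≤ c) ∧ (a * d = 2 → 1 / 5 ≤ c ∨ (a = 1 ∧ e = 2 ∧ f = 6)) ∧
      (3 ≤ a * d → (167 / 1000 : ℚ) * (Q : ℚ) ^ 2 ≤ (Q : ℚ) ^ (a * d) * c) := by
  have hN1 : 1 ≤ N := by rw [hN]; exact Nat.mul_pos (by positivity) hf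
  have hN1' : (1 : ℚ) ≤ N := by exact_mod_cast hN1
  have ha' : (1 : ℚ) ≤ a := by exact_mod_cast ha
  have hc'0 : 0 < c' := by
    by_contra h
    have := mul_nonpos_of_nonpos_of_nonneg (not_lt.1 h) (sq_nonneg (N : ℚ))
    linarith
  have hc0 : 0 < c := by
    by_contra h
    have := mul_nonpos_of_nonpos_of_nonneg (not_lt.1 h) (sq_nonneg (a : ℚ))
    linarith
  have one : e = 1 → 1 ≤ c' := by
    rintro rfl
    have : N = 1 := by omega
    subst this
    norm_num at h3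
    linarith
  have two : e ≤ 2 → 70 / 576 ≤ c' := fun h => by
    have h24 : N ≤ 24 := by
      interval_cases e
      · omega
      · have := Nat.le_of_dvd (by norm_num) (b2 rfl)
        omega
    have := AR.mono3 h3 hN1 h24 (by norm_num)
    norm_num at this
    linarith
  refine ⟨fun h => ?_, fun h => ?_, fun h => ?_⟩
  · have h1 : a = 1 := Nat.eq_one_of_mul_eq_one_right h
    have h2 : d = 1 := Nat.eq_one_of_mul_eq_one_left h
    have := one (by omega)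
    subst h1
    norm_num at hc
    linarith
  · have ha2 : a ≤ 2 := Nat.le_of_dvd two_pos ⟨d, h.symm⟩
    interval_cases a
    · norm_num at hc
      have hd : d = 2 := by omega
      subst hd
      interval_cases e
      · left; linarith [one rfl]
      · by_cases h6 : f = 6
        · exact Or.inr ⟨rfl, rfl, h6⟩
        left
        have h12 : N ≤ 12 := by
          have h7 := b2 rfl
          have := Nat.le_of_dvd (by norm_num) h7
          interval_cases f <;> omega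
        have := AR.mono3 h3 hN1 h12 (by norm_num)
        norm_num at this
        linarith
    · left
      have := one (by omega)
      norm_num at hc
      linarith
  obtain ⟨b, rfl⟩ : ∃ b, a = b + 1 := ⟨a - 1, by omega⟩
  have big1 : ∀ j, j + 2 ≤ d → (167 / 1000 : ℚ) ≤ 11 ^ j * c' →
      (167 / 1000 : ℚ) * (Q : ℚ) ^ 2 ≤ (Q : ℚ) ^ ((b + 1) * d) * c := fun j hj h2 =>
    AR.fin hc hc0.le (AR.big (k := 1) (j := j) hQ (by rw [one_mul]; exact AR.pw1 b)
      (by nlinarith)) (by simpa using h2)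
  have big2 : ∀ j, 1 ≤ b → j + 2 ≤ d → (167 / 1000 : ℚ) ≤ 2 * 11 ^ j * c' →
      (167 / 1000 : ℚ) * (Q : ℚ) ^ 2 ≤ (Q : ℚ) ^ ((b + 1) * d) * c := fun j hb hj h2 => by
    obtain ⟨b, rfl⟩ : ∃ b', b = b' + 1 := ⟨b - 1, by omega⟩
    exact AR.fin hc hc0.le (AR.big (k := 2) (j := j) hQ (AR.pw2 b) (by nlinarith))
      (by simpa using h2)
  rcases Nat.lt_or_ge d 3 with hd | hd
  · interval_cases d
    · omega
    · obtain ⟨b, rfl⟩ : ∃ b', b = b' + 2 := ⟨b - 2, by omega⟩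
      refine AR.fin hc hc0.le (AR.big (k := 1) (j := 0) hQ (by rw [one_mul]; exact AR.pw3 b)
        (by omega)) ?_
      have := one (by omega)
      norm_num
      linarith
    · refine big2 0 (by omega) le_rfl ?_
      have := two hed
      norm_num
      linarith
  rcases Nat.lt_or_ge e 8 with h8 | h8
  · have sqf : ∀ {M : ℕ}, Squarefree e → e ^ 6 = M → 2 ≤ M → 3 * (M : ℚ) - 2 ≤ c' * (M : ℚ) ^ 2 :=
      fun h1 h2 h4 => AR.mono3 h3 hN1 (by
        rw [hN, ← h2, show e ^ 6 = e ^ 2 * e ^ 4 by ring]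
        exact Nat.mul_le_mul_left _ (b4 h1)) h4
    interval_cases e
    · refine big1 1 hd ?_
      have := two (by norm_num)
      linarith
    · refine big1 1 hd ?_
      have := two (by norm_num)
      linarith
    · obtain ⟨h4, h5⟩ := b3 rfl
      have h6 := AR.mono3 (M := 216) h3 hN1 (by omega) (by norm_num)
      norm_num at h6
      rcases hd.eq_or_lt with rfl | hd4
      · rcases Nat.eq_zero_or_pos b with rfl | hb
        · have h13 : 13 ≤ Q := by
            rw [zero_add, pow_one] at h5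
            omega
          refine AR.fin (P := 13) hc hc0.le ?_ (by norm_num; linarith)
          rw [zero_add, one_pow, one_mul, one_mul, pow_succ Q 2]
          exact Nat.mul_le_mul_left _ h13
        · exact big2 1 hb le_rfl (by linarith)
      · exact big1 2 hd4 (by linarith)
    · refine big1 2 hed ?_
      rcases h13 with rfl | h13
      · subst hN
        norm_num at h3
        linarith
      · have := AR.mono13 (M := 2304) h13 (by omega) (by have := b16 rfl; omega)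
        norm_num at this
        linarith
    · have := sqf (M := 15625) Nat.prime_five.squarefree rfl (by norm_num)
      refine big1 3 hed ?_
      norm_num at this
      linarith
    · have := sqf (M := 46656) (by
        rw [show 6 = 2 * 3 from rfl, Nat.squarefree_mul (by norm_num)]
        exact ⟨Nat.prime_two.squarefree, Nat.prime_three.squarefree⟩) rfl (by norm_num)
      refine big1 4 hed ?_
      norm_num at this
      linarith
    · have := sqf (M := 117649) Nat.prime_seven.squarefree rfl (by norm_num)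
      refine big1 5 hed ?_
      norm_num at this
      linarith
  · obtain ⟨r, rfl⟩ : ∃ r, e = r + 8 := ⟨e - 8, by omega⟩
    refine big1 (r + 6) (by omega) ?_
    have h2 : 2 ≤ (r + 8) ^ 8 := le_trans (by omega) (Nat.le_self_pow (by norm_num) _)
    have h4 := AR.mono3 (M := (r + 8) ^ 8) h3 hN1 (by
      rw [hN, show (r + 8) ^ 8 = (r + 8) ^ 2 * (r + 8) ^ 6 by ring]
      exact Nat.mul_le_mul_left _ b6) h2
    have h5 : (167 : ℚ) * ((r + 8) ^ 8 : ℕ) ≤ 2000 * 11 ^ (r + 6) := by exact_mod_cast AR.pw8 r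
    have h2' : (2 : ℚ) ≤ ((r + 8) ^ 8 : ℕ) := by exact_mod_cast h2
    generalize (((r + 8) ^ 8 : ℕ) : ℚ) = M at h4 h5 h2'
    have h6 : 2 ≤ c' * M := by
      refine le_of_mul_le_mul_right (a := M) ?_ (by linarith)
      nlinarith
    nlinarith

end H90.KC
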