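import Mathlib
import Cfsg.Agent.Base
import Cfsg.Agent.Lib.KCl.Defs
import Cfsg.Agent.Lib.Char.Landau
import Cfsg.Agent.Lib.Misc82.PiClass

set_option autoImplicit false
set_option linter.unusedSectionVars false

universe u

namespace H90.KC

open Subgroup MulAction H83.Base
open scoped commutatorElement

theorem k_quot_le {G : Type*} [Group G] [Finite G] (N : Subgroup G) [N.Normal] :
    Nat.card (ConjClasses (G ⧸ N)) ≤ Nat.card (ConjClasses G) := by
  exact Nat.card_le_card_of_surjective _
    (ConjClasses.map_surjective (f := QuotientGroup.mk' N) (QuotientGroup.mk'_surjective N))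

theorem k_eq (G : Type*) [Group G] [Finite G] :
    (Nat.card (ConjClasses G) : ℚ) = commProb G * Nat.card G := by
  have : (Nat.card G : ℚ) ≠ 0 := by exact_mod_cast Nat.card_pos.ne'
  rw [commProb_def', div_mul_cancel₀ _ this]

theorem card_center_le_k (G : Type*) [Group G] [Finite G] :
    Nat.card (center G) ≤ Nat.card (ConjClasses G) := by
  refine Nat.card_le_card_of_injective (fun z : center G => ConjClasses.mk z.1) fun a b h => ?_
  obtain ⟨c, hc⟩ := isConj_iff.1 (ConjClasses.mk_eq_mk_iff_isConj.1 h)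
  refine Subtype.ext ?_
  rw [← hc, mem_center_iff.1 a.2 c, mul_inv_cancel_right]

theorem cp_le_of_inj {G H : Type*} [Group G] [Group H] [Finite H] (f : G →* H)
    (hf : Function.Injective f) : commProb H ≤ commProb G := by
  have e := MonoidHom.ofInjective hf
  have h1 : commProb G = commProb f.range := by
    rw [commProb_def, commProb_def, Nat.card_congr e.toEquiv]
    congr 2
    refine Nat.card_congr ((e.toEquiv.prodCongr e.toEquiv).subtypeEquiv fun x => ?_)
    exact ⟨fun h => h.map e, fun h => (Commute.of_map e.injective h)⟩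
  have h2 : (Nat.card (ConjClasses H) : ℚ) ≤ f.range.index * Nat.card (ConjClasses f.range) := by
    exact_mod_cast H81.card_conjClasses_le_index_mul f.range
  have h3 : (f.range.index : ℚ) * Nat.card f.range = Nat.card H := by
    exact_mod_cast f.range.index_mul_card
  have h4 : (0 : ℚ) < Nat.card H := by exact_mod_cast Nat.card_pos
  rw [k_eq, k_eq, mul_left_comm, h3] at h2
  rw [h1]
  exact le_of_mul_le_mul_right h2 h4

theorem cp_pi_le {G I : Type*} [Group G] [Fintype I] {H : I → Type*} [∀ i, Group (H i)]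
    [∀ i, Finite (H i)] (f : ∀ i, G →* H i) (hf : ∀ g, (∀ i, f i g = 1) → g = 1) :
    ∏ i, commProb (H i) ≤ commProb G := by
  rw [← commProb_pi]
  exact cp_le_of_inj (MonoidHom.pi f) ((injective_iff_map_eq_one _).2 fun g hg =>
    hf g fun i => congrFun hg i)

theorem classes_split {G : Type*} [Group G] [Finite G] (V : Subgroup G) [V.Normal]
    (hV : ∀ x ∈ V, ∀ y ∈ V, x * y = y * x) :
    ∃ o : ℕ, Nat.card (ConjClasses (G ⧸ V)) + o ≤ Nat.card (ConjClasses G) ∧
      Nat.card V ≤ o * V.index + 1 := by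
  let m := ConjClasses.map (QuotientGroup.mk' V)
  let O : Set (ConjClasses G) := {c | m c = 1 ∧ c ≠ 1}
  refine ⟨O.ncard, ?_, ?_⟩
  · have h1 : m '' Oᶜ = Set.univ := Set.eq_univ_of_forall fun c => by
      obtain ⟨d, rfl⟩ := ConjClasses.map_surjective (QuotientGroup.mk'_surjective V) c
      by_cases hd : d ∈ O
      · exact ⟨1, fun h => h.2 rfl, hd.1.symm⟩
      · exact ⟨d, hd, rfl⟩
    have h2 := Set.ncard_image_le (f := m) (s := Oᶜ)
    rw [h1, Set.ncard_univ] at h2
    have h3 := Set.ncard_add_ncard_compl O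
    omega
  · have h1 := H82.ncard_le_mul (s := (V : Set G) \ {1}) (t := O) ConjClasses.mk (n := V.index)
      (fun a ha => ⟨congrArg ConjClasses.mk ((QuotientGroup.eq_one_iff a).2 ha.1), fun h =>
        ha.2 (isConj_one_left.1 (ConjClasses.mk_eq_mk_iff_isConj.1 h))⟩) fun b _ => by
      rcases Set.eq_empty_or_nonempty {a ∈ (V : Set G) \ {1} | ConjClasses.mk a = b} with h | h
      · rw [h, Set.ncard_empty]; exact Nat.zero_le _
      obtain ⟨a, ha, rfl⟩ := h
      refine (Set.ncard_le_ncard (t := (ConjClasses.mk a).carrier) fun x hx =>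
        ConjClasses.mem_carrier_iff_mk_eq.2 hx.2).trans ?_
      have h2 := H31.card_carrier_mul a
      rw [← (centralizer ({a} : Set G)).index_mul_card] at h2
      rw [Nat.eq_of_mul_eq_mul_right Nat.card_pos h2]
      exact index_antitone fun x hx => mem_centralizer_singleton_iff.2 (hV x hx a ha.1)
    have h2 := Set.ncard_sdiff_singleton_add_one (s := (V : Set G)) (one_mem V)
    rw [← Nat.card_coe_set_eq (V : Set G)] at h2
    change _ = Nat.card V at h2
    omega

theorem quot_mod {G : Type u} [Group G] [Finite G] (V : Subgroup G) [V.Normal] (hne : V ≠ ⊥)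
    (hV : ∀ x ∈ V, ∀ y ∈ V, x * y = y * x) (hc : centralizer (V : Set G) ≤ V)
    (hmin : ∀ K : Subgroup G, K.Normal → K ≤ V → K = ⊥ ∨ K = V) :
    ∃ (W : Type u) (_ : AddCommGroup W) (_ : Finite W) (_ : DistribMulAction (G ⧸ V) W),
      FaithfulSMul (G ⧸ V) W ∧ Irr (G ⧸ V) W ∧ Nat.card W = Nat.card V ∧
        ∀ m : ℕ, (∀ x ∈ V, x ^ m = 1) → ∀ w : W, m • w = 0 := by
  letI : CommGroup V := { (inferInstance : Group V) with
    mul_comm := fun a b => Subtype.ext (hV a a.2 b b.2) }
  let φ : G ⧸ V →* MulAut V := QuotientGroup.lift V MulAut.conjNormal fun x hx => by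
    ext y
    simp [hV x hx y y.2]
  letI : DistribMulAction (G ⧸ V) (Additive V) :=
    { smul := fun g w => Additive.ofMul (φ g w.toMul)
      one_smul := fun w => by
        change Additive.ofMul (φ 1 w.toMul) = w
        rw [map_one]; rfl
      mul_smul := fun g k w => by
        change Additive.ofMul (φ (g * k) w.toMul) = Additive.ofMul (φ g (φ k w.toMul))
        rw [map_mul]; rfl
      smul_zero := fun g => congrArg Additive.ofMul (map_one (φ g))
      smul_add := fun g v w => congrArg Additive.ofMul (map_mul (φ g) v.toMul w.toMul) }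
  have hsm : ∀ (g : G) (v : V), (g : G ⧸ V) • Additive.ofMul v =
      Additive.ofMul (MulAut.conjNormal g v) := fun _ _ => rfl
  refine ⟨Additive V, inferInstance, inferInstance, inferInstance, ⟨fun {a b} h => ?_⟩,
    ⟨(nontrivial_iff_ne_bot V).2 hne, fun U hU => ?_⟩, rfl, fun m hm w => ?_⟩
  · obtain ⟨a, rfl⟩ := QuotientGroup.mk_surjective a
    obtain ⟨b, rfl⟩ := QuotientGroup.mk_surjective b
    refine QuotientGroup.eq.2 (hc (mem_centralizer_iff.2 fun v hv => ?_))
    have h1 : a * v * a⁻¹ = b * v * b⁻¹ :=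
      congrArg Subtype.val (Additive.ofMul.injective (h (Additive.ofMul ⟨v, hv⟩)))
    calc v * (a⁻¹ * b) = a⁻¹ * (a * v * a⁻¹) * b := by group
      _ = _ := by rw [h1]; group
  · let K : Subgroup G := (AddSubgroup.toSubgroup' U).map V.subtype
    have mK : ∀ v : V, v.1 ∈ K ↔ Additive.ofMul v ∈ U := fun v =>
      ⟨fun ⟨w, hw, e⟩ => Subtype.ext e ▸ hw, fun h => ⟨v, h, rfl⟩⟩
    rcases hmin K ⟨by
      rintro _ ⟨v, hv, rfl⟩ g
      exact (mK (MulAut.conjNormal g v)).2 (hU g _ hv)⟩ (map_subtype_le _) with h | h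
    · left
      rw [eq_bot_iff]
      intro w hw
      have := (mK w.toMul).2 hw
      rw [h] at this
      exact AddSubgroup.mem_bot.2 (congrArg Additive.ofMul (Subtype.ext (mem_bot.1 this)))
    · right
      rw [eq_top_iff]
      intro w _
      exact (mK w.toMul).1 (h.ge w.toMul.2)
  · exact congrArg Additive.ofMul (Subtype.ext (hm _ w.toMul.2) : w.toMul ^ m = 1)

end H90.KC
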