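import Mathlib
import Cfsg.Agent.Base
import Cfsg.Agent.Lib.KCl.Defs

set_option autoImplicit false
set_option linter.unusedSectionVars false

universe u

namespace H90.KC

open Subgroup MulAction H83.Base
open scoped commutatorElement

section Q

variable {Q : Type*} [Group Q] [Fintype Q]

theorem CZ.eq_sum : Nat.card {xy : Q × Q // ∃ g, xy.1 ∈ zpowers g ∧ xy.2 ∈ zpowers g} =
    ∑ x : Q, Nat.card {y : Q // ∃ g, x ∈ zpowers g ∧ y ∈ zpowers g} := by
  rw [Nat.card_congr (Equiv.subtypeProdEquivSigmaSubtype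
    fun x y : Q => ∃ g, x ∈ zpowers g ∧ y ∈ zpowers g), Nat.card_sigma]

theorem CZ.order_le {x g : Q} (h : x ∈ zpowers g) :
    orderOf g ≤ Nat.card {y : Q // ∃ g, x ∈ zpowers g ∧ y ∈ zpowers g} := by
  rw [← Nat.card_zpowers]
  exact Nat.card_le_card_of_injective (fun y : zpowers g => ⟨y.1, g, h, y.2⟩)
    fun a b e => Subtype.ext (Subtype.mk.inj e)

theorem CZ.one_le : Nat.card Q ≤ Nat.card {y : Q // ∃ g, (1 : Q) ∈ zpowers g ∧ y ∈ zpowers g} :=
  Nat.card_le_card_of_injective (fun y : Q => ⟨y, y, one_mem _, mem_zpowers y⟩)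
    fun _ _ e => congrArg Subtype.val e

theorem CZ.four_le [DecidableEq Q] : 4 * (Nat.card Q : ℚ) - 2 - (Finset.univ.filter fun x : Q => x ^ 2 = 1).card ≤
    Nat.card {xy : Q × Q // ∃ g, xy.1 ∈ zpowers g ∧ xy.2 ∈ zpowers g} := by
  rw [CZ.eq_sum]
  push_cast
  refine le_trans (le_of_eq ?_) (Finset.sum_le_sum (f := fun x : Q =>
    (if x = 1 then (Nat.card Q : ℚ) - 2 else 0) + 3 - if x ^ 2 = 1 then 1 else 0) fun x _ => ?_)
  · rw [Finset.sum_sub_distrib, Finset.sum_add_distrib, Finset.sum_ite_eq', Finset.sum_boole]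
    simp
    ring
  · have h0 : (orderOf x : ℚ) ≤ Nat.card {y : Q // ∃ g, x ∈ zpowers g ∧ y ∈ zpowers g} := by
      exact_mod_cast CZ.order_le (mem_zpowers x)
    by_cases h1 : x = 1
    · subst h1
      have : (Nat.card Q : ℚ) ≤ Nat.card {y : Q // ∃ g, (1 : Q) ∈ zpowers g ∧ y ∈ zpowers g} := by
        exact_mod_cast CZ.one_le
      rw [if_pos rfl, if_pos (one_pow 2)]
      linarith
    have h2 : orderOf x ≠ 1 := fun e => h1 (orderOf_eq_one_iff.1 e)
    have h3 := orderOf_pos x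
    rw [if_neg h1]
    split_ifs with h4
    · have : (2 : ℚ) ≤ orderOf x := by exact_mod_cast (by omega : 2 ≤ orderOf x)
      linarith
    · have h5 : orderOf x ≠ 2 := fun e => h4 (e ▸ pow_orderOf_eq_one x)
      have : (3 : ℚ) ≤ orderOf x := by exact_mod_cast (by omega : 3 ≤ orderOf x)
      linarith

theorem CZ.eq_top {H : Subgroup Q} (h : Nat.card Q < 2 * Nat.card H) : H = ⊤ := by
  rw [← H.index_mul_card] at h
  have := Nat.lt_of_mul_lt_mul_right h
  have := index_ne_zero_of_finite (H := H)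
  exact index_eq_one.1 (by omega)

theorem CZ.quarter [DecidableEq Q] (h : ∃ x : Q, x ^ 2 ≠ 1) :
    4 * (Finset.univ.filter fun x : Q => x ^ 2 = 1).card ≤ 3 * Nat.card Q := by
  by_contra hlt
  set T := Finset.univ.filter fun x : Q => x ^ 2 = 1 with hT
  have mT : ∀ x, x ∈ T ↔ x ^ 2 = 1 := fun x => by simp [hT]
  have big : ∀ (H : Subgroup Q) (X : Finset Q), (∀ x ∈ X, x ∈ H) → X.card ≤ Nat.card H :=
    fun H X hX => by
      rw [← Nat.card_eq_finsetCard]
      exact Nat.card_le_card_of_injective (fun x : X => (⟨x.1, hX _ x.2⟩ : H))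
        fun a b e => Subtype.ext (Subtype.mk.inj e)
  have hc : ∀ s : Q, s ^ 2 = 1 → ∀ g, g * s = s * g := fun s hs => by
    have h1 := Finset.card_union_add_card_inter T (T.image (s * ·))
    rw [Finset.card_image_of_injective _ (mul_right_injective s)] at h1
    have h2 : (T ∪ T.image (s * ·)).card ≤ Nat.card Q := by
      rw [Nat.card_eq_fintype_card]; exact Finset.card_le_univ _
    have h3 := big (centralizer {s}) (T ∩ T.image (s * ·)) fun x hx => by
      obtain ⟨hx1, hx2⟩ := Finset.mem_inter.1 hx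
      obtain ⟨y, hy, rfl⟩ := Finset.mem_image.1 hx2
      rw [mT, sq] at hx1 hy
      rw [sq] at hs
      rw [mem_centralizer_singleton_iff]
      calc s * y * s = s * y * (s * y) * y⁻¹ := by group
        _ = s * s * y * (y * y)⁻¹ := by rw [hx1, hs]; group
        _ = _ := by rw [hy]; group
    have h4 : centralizer {s} = ⊤ := CZ.eq_top (by omega)
    intro g
    exact mem_centralizer_singleton_iff.1 (h4 ▸ mem_top g)
  let H : Subgroup Q :=
    { carrier := {x | x ^ 2 = 1}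
      mul_mem' := fun {a b} ha hb => by
        change (a * b) ^ 2 = 1
        rw [Commute.mul_pow (hc b hb a), ha, hb, one_mul]
      one_mem' := one_pow 2
      inv_mem' := fun {a} ha => by
        change a⁻¹ ^ 2 = 1
        rw [inv_pow, ha, inv_one] }
  have h1 := big H T fun x hx => (mT x).1 hx
  have h2 : H = ⊤ := CZ.eq_top (by omega)
  obtain ⟨x, hx⟩ := h
  exact hx (h2.ge (mem_top x))

end Q

variable {A : Type*} [Group A] [Finite A]

theorem cyc_le (Z : Subgroup A) [Z.Normal] (hZ : Z ≤ center A) :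
    (Nat.card {xy : (A ⧸ Z) × (A ⧸ Z) // ∃ g, xy.1 ∈ zpowers g ∧ xy.2 ∈ zpowers g} : ℚ) ≤
      commProb A * (Z.index : ℚ) ^ 2 := by
  have h1 : Nat.card ({xy : (A ⧸ Z) × (A ⧸ Z) // ∃ g, xy.1 ∈ zpowers g ∧ xy.2 ∈ zpowers g} ×
      Z × Z) ≤ Nat.card {p : A × A // Commute p.1 p.2} := by
    have key : ∀ (g : A) {x : A ⧸ Z}, x ∈ zpowers (g : A ⧸ Z) → ∀ z : Z,
        ∃ i : ℤ, ∃ y ∈ center A, x.out * z = g ^ i * y := by
      rintro g _ ⟨i, rfl⟩ z
      refine ⟨i, (g ^ i)⁻¹ * ((g : A ⧸ Z) ^ i).out * z, hZ (mul_mem ?_ z.2), by simp [mul_assoc]⟩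
      rw [← QuotientGroup.eq, QuotientGroup.out_eq', QuotientGroup.mk_zpow]
    refine Nat.card_le_card_of_injective
      (fun t => ⟨(t.1.1.1.out * t.2.1, t.1.1.2.out * t.2.2), ?_⟩) fun a b e => ?_
    · obtain ⟨g, h1, h2⟩ := t.1.2
      obtain ⟨g, rfl⟩ := QuotientGroup.mk_surjective g
      obtain ⟨i, y, hy, e1⟩ := key g h1 t.2.1
      obtain ⟨j, z, hz, e2⟩ := key g h2 t.2.2
      change Commute (_ * _) (_ * _)
      rw [e1, e2]
      exact Commute.mul_left (Commute.mul_right (Commute.zpow_zpow_self g i j)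
        (mem_center_iff.1 hz _)) (mem_center_iff.1 hy _).symm
    · have inj : ∀ {x y : A ⧸ Z} {z w : Z}, x.out * z = y.out * w → x = y ∧ z = w := by
        intro x y z w h
        have h1 := congrArg (QuotientGroup.mk : A → A ⧸ Z) h
        rw [QuotientGroup.mk_mul_of_mem _ z.2, QuotientGroup.mk_mul_of_mem _ w.2,
          QuotientGroup.out_eq', QuotientGroup.out_eq'] at h1
        subst h1
        exact ⟨rfl, Subtype.ext (mul_left_cancel h)⟩
      have e' := congrArg Subtype.val e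
      obtain ⟨h1, h2⟩ := inj (congrArg Prod.fst e')
      obtain ⟨h3, h4⟩ := inj (congrArg Prod.snd e')
      exact Prod.ext (Subtype.ext (Prod.ext h1 h3)) (Prod.ext h2 h4)
  rw [Nat.card_prod, Nat.card_prod] at h1
  have h2 : (0 : ℚ) < Nat.card Z := by exact_mod_cast Nat.card_pos
  have h3 : (0 : ℚ) < Z.index := by exact_mod_cast Nat.pos_of_ne_zero index_ne_zero_of_finite
  rw [commProb_def, ← Z.index_mul_card]
  push_cast
  rw [div_mul_eq_mul_div, le_div_iff₀ (by positivity)]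
  have h4 : (Nat.card {xy : (A ⧸ Z) × (A ⧸ Z) // ∃ g, xy.1 ∈ zpowers g ∧ xy.2 ∈ zpowers g} : ℚ) *
      (Nat.card Z * Nat.card Z) ≤ Nat.card {p : A × A // Commute p.1 p.2} := by exact_mod_cast h1
  nlinarith [mul_le_mul_of_nonneg_right h4 (sq_nonneg (Z.index : ℚ))]

theorem cz_three (Z : Subgroup A) (hZ : Z ≤ center A) :
    3 * (Z.index : ℚ) - 2 ≤ commProb A * (Z.index : ℚ) ^ 2 := by
  classical
  haveI : Z.Normal := ⟨fun z hz g => by rwa [mem_center_iff.1 (hZ hz) g, mul_inv_cancel_right]⟩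
  letI := Fintype.ofFinite (A ⧸ Z)
  have h1 := CZ.four_le (Q := A ⧸ Z)
  have h2 : ((Finset.univ.filter fun x : A ⧸ Z => x ^ 2 = 1).card : ℚ) ≤ Nat.card (A ⧸ Z) := by
    rw [Nat.card_eq_fintype_card]; exact_mod_cast Finset.card_le_univ _
  have h3 := cyc_le Z hZ
  rw [← index_eq_card] at h1 h2
  linarith

theorem cz_quarter (Z : Subgroup A) (hZ : Z ≤ center A) (h : ∃ x : A, x ^ 2 ∉ Z) :
    13 * (Z.index : ℚ) - 8 ≤ 4 * (commProb A * (Z.index : ℚ) ^ 2) := by
  classical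
  haveI : Z.Normal := ⟨fun z hz g => by rwa [mem_center_iff.1 (hZ hz) g, mul_inv_cancel_right]⟩
  letI := Fintype.ofFinite (A ⧸ Z)
  have h1 := CZ.four_le (Q := A ⧸ Z)
  have h2 : 4 * ((Finset.univ.filter fun x : A ⧸ Z => x ^ 2 = 1).card : ℚ) ≤
      3 * Nat.card (A ⧸ Z) := by
    obtain ⟨x, hx⟩ := h
    exact_mod_cast CZ.quarter ⟨(x : A ⧸ Z), fun e => hx ((QuotientGroup.eq_one_iff _).1 e)⟩
  have h3 := cyc_le Z hZ
  rw [← index_eq_card] at h1 h2
  linarith

end H90.KC
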