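import Mathlib
import Cfsg.Agent.Base
import Cfsg.Agent.Lib.KCl.Defs

set_option autoImplicit false
set_option linter.unusedSectionVars false

universe u

namespace H90.KC

open Subgroup MulAction H83.Base
open scoped commutatorElement

theorem DI.imp {G V : Type u} {K₀ : Type*} [Group G] [Finite G] [AddCommGroup V] [Finite V]
    [DistribMulAction G V] [FaithfulSMul G V] [Field K₀] [Module K₀ V] [SMulCommClass G K₀ V]
    (hs : Group.IsSolvable G) (hi : Irr G V) (K : Subring (AddMonoid.End V))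
    (hK : ∀ a ∈ K, ∀ b ∈ K, a * b = b * a) (hKg : ∀ g : G, ∀ a ∈ K, cjE g a ∈ K)
    (hK0 : ∀ a ∈ K, ∀ (c : K₀) (v : V), a (c • v) = c • a v)
    {f0 : AddMonoid.End V} (hf0 : f0 ∈ K) (hf1 : f0 * f0 = f0) (hf2 : f0 ≠ 0) (hf3 : f0 ≠ 1) :
    ∃ (I : Type u) (_ : Fintype I) (_ : MulAction G I) (H U : I → Type u) (_ : ∀ a, Group (H a))
      (_ : ∀ a, Finite (H a)) (_ : ∀ a, AddCommGroup (U a)) (_ : ∀ a, Finite (U a))
      (_ : ∀ a, DistribMulAction (H a) (U a)) (_ : ∀ a, Module K₀ (U a))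
      (ψ : ∀ a, (toPermHom G I).ker →* H a),
      2 ≤ Fintype.card I ∧ ∏ a, Nat.card (U a) = Nat.card V ∧ (∀ g, (∀ a, ψ a g = 1) → g = 1) ∧
      ∀ a, Group.IsSolvable (H a) ∧ FaithfulSMul (H a) (U a) ∧ SMulCommClass (H a) K₀ (U a) ∧
        Irr (H a) (U a) := by
  classical
  haveI : Finite (AddMonoid.End V) :=
    Finite.of_injective (fun f : AddMonoid.End V => (f : V → V)) DFunLike.coe_injective
  let I := {a : AddMonoid.End V // a ∈ K ∧ a * a = a ∧ a ≠ 0 ∧
    ∀ f ∈ K, f * f = f → f * a = 0 ∨ f * a = a}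
  have hinv : ∀ (g : G) (a : AddMonoid.End V), cjE g (cjE g⁻¹ a) = a := fun g a => by
    rw [← cjE_mul, mul_inv_cancel, cjE_one]
  have hinv' : ∀ (g : G) (a : AddMonoid.End V), cjE g⁻¹ (cjE g a) = a := fun g a => by
    rw [← cjE_mul, inv_mul_cancel, cjE_one]
  letI : MulAction G I :=
    { smul := fun g a => ⟨cjE g a.1, hKg g _ a.2.1, by rw [← map_mul, a.2.2.1], fun h =>
        a.2.2.2.1 (by rw [← hinv' g a.1, h, map_zero]), fun f hf hff => by
          rcases a.2.2.2.2 (cjE g⁻¹ f) (hKg _ _ hf) (by rw [← map_mul, hff]) with h | h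
          · left; rw [← hinv g f, ← map_mul, h, map_zero]
          · right; rw [← hinv g f, ← map_mul, h]⟩
      one_smul := fun a => Subtype.ext (cjE_one a.1)
      mul_smul := fun g h a => Subtype.ext (cjE_mul g h a.1) }
  have hsm : ∀ (g : G) (a : I) (v : V), (g • a).1 (g • v) = g • a.1 v := fun g a v =>
    cjE_smul g a.1 v
  have idem : ∀ (a : I) v, a.1 (a.1 v) = a.1 v := fun a v => DFunLike.congr_fun a.2.2.1 v
  have orth : ∀ a b : I, a ≠ b → ∀ v, a.1 (b.1 v) = 0 := by
    intro a b hab v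
    rcases b.2.2.2.2 a.1 a.2.1 a.2.2.1 with h | h
    · exact DFunLike.congr_fun h v
    rcases a.2.2.2.2 b.1 b.2.1 b.2.2.1 with h' | h'
    · rw [hK _ b.2.1 _ a.2.1] at h'; exact DFunLike.congr_fun h' v
    · exact absurd (Subtype.ext (by rw [← h', hK _ b.2.1 _ a.2.1, h])) hab
  have nz : ∀ a : I, ∃ v, a.1 v ≠ 0 := fun a => by
    by_contra! h
    exact a.2.2.2.1 (DFunLike.ext _ _ h)
  obtain ⟨a0⟩ : Nonempty I := by
    obtain ⟨a, ⟨h1, h2, h3⟩, hm⟩ := exists_min_nat
      {a : AddMonoid.End V | a ∈ K ∧ a * a = a ∧ a ≠ 0} (fun a => {v | a v = v}.ncard)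
      ⟨f0, hf0, hf1, hf2⟩
    refine ⟨⟨a, h1, h2, h3, fun f hf hff => ?_⟩⟩
    by_cases h0 : f * a = 0
    · exact Or.inl h0
    right
    have e1 : a * (f * a) = f * a := by rw [← mul_assoc, hK a h1 f hf, mul_assoc, h2]
    have h4 := hm (f * a) ⟨mul_mem hf h1, by rw [mul_assoc, e1, ← mul_assoc, hff], h0⟩
    have h5 : {v | (f * a) v = v} = {v | a v = v} := Set.eq_of_subset_of_ncard_le (fun v hv => by
      have hv' : (f * a) v = v := hv
      change a v = v
      rw [← hv']; exact DFunLike.congr_fun e1 v) h4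
    ext v
    have : a v ∈ {v | (f * a) v = v} := by rw [h5]; exact DFunLike.congr_fun h2 v
    have h6 : (f * a) (a v) = a v := this
    rw [← h6]
    exact (DFunLike.congr_fun (show f * a * a = f * a by rw [mul_assoc, h2]) v).symm
  letI : Fintype I := Fintype.ofFinite I
  have proj : ∀ (s : I → V), (∀ a, a.1 (s a) = s a) → ∀ a : I, a.1 (∑ b, s b) = s a := by
    intro s hs a
    rw [map_sum, Finset.sum_eq_single a (fun b _ hb => by rw [← hs b, orth a b hb.symm])
      (by simp), hs]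
  have hsum : ∀ v, ∑ a : I, a.1 v = v := by
    let U : AddSubgroup V :=
      { carrier := {v | ∑ a : I, a.1 v = v}
        add_mem' := fun {v w} hv hw => by
          simp only [Set.mem_ofPred_eq, map_add, Finset.sum_add_distrib] at *
          rw [hv, hw]
        zero_mem' := by simp
        neg_mem' := fun {v} hv => by
          simp only [Set.mem_ofPred_eq, map_neg, Finset.sum_neg_distrib] at *
          rw [hv] }
    have hU : Invt G U := fun g v hv => by
      change ∑ a : I, a.1 (g • v) = g • v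
      have hv' : ∑ a : I, a.1 v = v := hv
      rw [← Equiv.sum_comp (MulAction.toPerm g)]
      simp only [MulAction.toPerm_apply, hsm]
      rw [← Finset.smul_sum, hv']
    rcases hi.2 U hU with h | h
    · obtain ⟨v, hv⟩ := nz a0
      have : a0.1 v ∈ U := by
        change ∑ a : I, a.1 (a0.1 v) = a0.1 v
        rw [Finset.sum_eq_single a0 (fun b _ hb => orth b a0 hb v) (by simp), idem]
      rw [h] at this
      exact absurd (AddSubgroup.mem_bot.1 this) hv
    · intro v
      have : v ∈ U := h ▸ AddSubgroup.mem_top v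
      exact this
  let US : I → Submodule K₀ V := fun a =>
    { carrier := {v | a.1 v = v}
      add_mem' := fun {v w} hv hw => by
        simp only [Set.mem_ofPred_eq, map_add] at *
        rw [hv, hw]
      zero_mem' := map_zero a.1
      smul_mem' := fun c v hv => by
        simp only [Set.mem_ofPred_eq] at *
        rw [hK0 _ a.2.1, hv] }
  have key : ∀ a : I, ∃ (H : Type u) (_ : Group H) (_ : Finite H)
      (_ : DistribMulAction H (US a)) (ψ : stabilizer G a →* H),
      (∀ g (v : US a), ((ψ g • v : US a) : V) = (g : G) • (v : V)) ∧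
      Group.IsSolvable H ∧ FaithfulSMul H (US a) ∧ SMulCommClass H K₀ (US a) ∧ Irr H (US a) := by
    intro a
    let U : AddSubgroup V := (US a).toAddSubgroup
    have mU : ∀ v, v ∈ U ↔ a.1 v = v := fun v => Iff.rfl
    have hU : Invt (stabilizer G a) U := fun g v hv => by
      rw [mU] at hv ⊢
      have := hsm g a v
      rw [mem_stabilizer_iff.1 g.2, hv] at this
      exact this
    letI := subAct (stabilizer G a) U hU
    obtain ⟨v0, hv0⟩ := nz a
    have hnt : Nontrivial U := ⟨⟨⟨a.1 v0, idem a v0⟩, 0, fun h => hv0 (congrArg Subtype.val h)⟩⟩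
    have hirr : Irr (stabilizer G a) U := ⟨hnt, fun W hW => by
      let W' : AddSubgroup V :=
        { carrier := {v | ∀ g : G, a.1 (g • v) ∈ W.map U.subtype}
          add_mem' := fun {v w} hv hw g => by
            rw [smul_add, map_add]; exact add_mem (hv g) (hw g)
          zero_mem' := fun g => by rw [smul_zero, map_zero]; exact zero_mem _
          neg_mem' := fun {v} hv g => by rw [smul_neg, map_neg]; exact neg_mem (hv g) }
      have hWW : ∀ w ∈ W, w.1 ∈ W' := fun w hw g => by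
        by_cases hg : g • a = a
        · exact ⟨(⟨g, hg⟩ : stabilizer G a) • w, hW _ _ hw,
            ((⟨g, hg⟩ : stabilizer G a) • w).2.symm⟩
        · rw [← (mU _).1 w.2, ← hsm, orth _ _ (Ne.symm hg)]
          exact zero_mem _
      rcases hi.2 W' (fun g v hv x => by rw [← mul_smul]; exact hv _) with h | h
      · left
        rw [eq_bot_iff]
        intro w hw
        have := hWW w hw
        rw [h] at this
        exact AddSubgroup.mem_bot.2 (Subtype.ext (AddSubgroup.mem_bot.1 this))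
      · right
        rw [eq_top_iff]
        intro w _
        have : w.1 ∈ W' := h ▸ AddSubgroup.mem_top _
        obtain ⟨w', h1, h2⟩ := this 1
        rw [one_smul, (mU _).1 w.2] at h2
        rwa [← Subtype.ext h2]⟩
    obtain ⟨H, i1, i2, i3, ψ, h1, h2, h3⟩ := exists_faithful (stabilizer G a) U
    letI i4 : DistribMulAction H (US a) := i3
    have h4 : ∀ g (v : US a), ((ψ g • v : US a) : V) = (g : G) • (v : V) := fun g v =>
      congrArg Subtype.val (h2 g v)
    have h5 : SMulCommClass H K₀ (US a) := ⟨fun g c v => by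
      obtain ⟨g, rfl⟩ := h1 g
      apply Subtype.ext
      rw [h4, Submodule.coe_smul, Submodule.coe_smul, h4, smul_comm]⟩
    exact ⟨H, i1, i2, i4, ψ, h4, Group.isSolvable_of_surjective h1, h3, h5, hirr.1,
      fun W hW => hirr.2 W fun g v hv => by rw [← h2]; exact hW _ _ hv⟩
  choose H iG iF iA ψ h1 h2 using key
  have hle : ∀ a : I, (toPermHom G I).ker ≤ stabilizer G a := fun a g hg =>
    DFunLike.congr_fun (MonoidHom.mem_ker.1 hg) a
  refine ⟨I, inferInstance, inferInstance, H, fun a => US a, iG, iF, inferInstance, inferInstance,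
    iA, inferInstance, fun a => (ψ a).comp (inclusion (hle a)), ?_, ?_, fun g hg => ?_, h2⟩
  · by_contra hlt
    have hsub : ∀ b : I, b = a0 := fun b => Fintype.card_le_one_iff.1 (by omega) b a0
    have h3 : a0.1 = 1 := DFunLike.ext _ _ fun v => by
      have := hsum v
      rwa [Finset.sum_eq_single a0 (fun b _ hb => absurd (hsub b) hb) (by simp)] at this
    have := a0.2.2.2.2 f0 hf0 hf1
    rw [h3, mul_one] at this
    tauto
  · rw [← Nat.card_pi]
    refine Nat.card_congr ⟨fun s => ∑ a, (s a).1, fun v a => ⟨a.1 v, idem a v⟩, fun s => ?_,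
      fun v => hsum v⟩
    funext a
    exact Subtype.ext (proj (fun b => (s b).1) (fun b => (s b).2) a)
  · refine Subtype.ext (FaithfulSMul.eq_of_smul_eq_smul (α := V) fun x => ?_)
    rw [OneMemClass.coe_one, one_smul, ← hsum x, Finset.smul_sum]
    refine Finset.sum_congr rfl fun a _ => ?_
    have h3 := h1 a (inclusion (hle a) g) ⟨a.1 x, idem a x⟩
    have h4 : ψ a (inclusion (hle a) g) = 1 := hg a
    rw [h4, one_smul] at h3
    exact h3.symm

theorem dich {G V : Type u} {K₀ : Type*} [Group G] [Finite G] [AddCommGroup V] [Finite V]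
    [DistribMulAction G V] [FaithfulSMul G V] [Field K₀] [Module K₀ V] [SMulCommClass G K₀ V]
    (hs : Group.IsSolvable G) (hi : Irr G V) :
    (∃ (K : Type u) (_ : Field K) (_ : Finite K) (_ : Module K V) (_ : Algebra K₀ K),
      IsScalarTower K₀ K V ∧ (∀ (g : G) (k : K), ∃ k' : K, ∀ v : V, g • k • v = k' • g • v) ∧
      ∀ D : Subgroup G, D.Normal → (∀ d ∈ D, Lin K V d) → (∀ a ∈ D, ∀ b ∈ D, a * b = b * a) →
        ∀ d ∈ D, Scal K V d) ∨
    ∃ (I : Type u) (_ : Fintype I) (_ : MulAction G I) (H U : I → Type u) (_ : ∀ a, Group (H a))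
      (_ : ∀ a, Finite (H a)) (_ : ∀ a, AddCommGroup (U a)) (_ : ∀ a, Finite (U a))
      (_ : ∀ a, DistribMulAction (H a) (U a)) (_ : ∀ a, Module K₀ (U a))
      (ψ : ∀ a, (toPermHom G I).ker →* H a),
      2 ≤ Fintype.card I ∧ ∏ a, Nat.card (U a) = Nat.card V ∧ (∀ g, (∀ a, ψ a g = 1) → g = 1) ∧
      ∀ a, Group.IsSolvable (H a) ∧ FaithfulSMul (H a) (U a) ∧ SMulCommClass (H a) K₀ (U a) ∧
        Irr (H a) (U a) := by
  classical
  haveI : Finite (AddMonoid.End V) :=
    Finite.of_injective (fun f : AddMonoid.End V => (f : V → V)) DFunLike.coe_injective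
  haveI := hi.1
  obtain ⟨Z, ⟨hZn, hZc⟩, hZm⟩ := Set.Finite.exists_maximal (Set.toFinite
    {Z : Subgroup G | Z.Normal ∧ ∀ a ∈ Z, ∀ b ∈ Z, a * b = b * a})
    ⟨⊥, inferInstance, by simp⟩
  let ρ := DistribMulAction.toAddMonoidEnd G V
  let σ := Module.toAddMonoidEnd K₀ V
  let K := Subring.closure (ρ '' Z ∪ Set.range σ)
  have hc : ∀ f : AddMonoid.End V, (∀ z ∈ Z, f * ρ z = ρ z * f) → (∀ c, f * σ c = σ c * f) →
      ∀ a ∈ K, f * a = a * f := by
    intro f hf hf' a ha
    have : K ≤ Subring.centralizer {f} := Subring.closure_le.2 (by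
      rintro _ (⟨z, hz, rfl⟩ | ⟨c, rfl⟩)
      · exact Subring.mem_centralizer_iff.2 (by rintro _ rfl; exact hf z hz)
      · exact Subring.mem_centralizer_iff.2 (by rintro _ rfl; exact hf' c))
    exact Subring.mem_centralizer_iff.1 (this ha) f rfl
  have hρσ : ∀ (g : G) (c : K₀), ρ g * σ c = σ c * ρ g := fun g c =>
    DFunLike.ext _ _ fun v => smul_comm g c v
  have hσK : ∀ c, ∀ a ∈ K, σ c * a = a * σ c := fun c =>
    hc (σ c) (fun z _ => (hρσ z c).symm) fun c' => by rw [← map_mul, ← map_mul, mul_comm]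
  have hK : ∀ a ∈ K, ∀ b ∈ K, a * b = b * a := fun a ha =>
    hc a (fun z hz => (hc (ρ z) (fun y hy => by rw [← map_mul, ← map_mul, hZc z hz y hy])
      (hρσ z) a ha).symm) fun c => (hσK c a ha).symm
  have hKg : ∀ g : G, ∀ a ∈ K, cjE g a ∈ K := fun g a ha => by
    have : K ≤ K.comap (cjE g) := Subring.closure_le.2 (by
      rintro _ (⟨z, hz, rfl⟩ | ⟨c, rfl⟩)
      · exact Subring.subset_closure (Or.inl ⟨_, hZn.conj_mem z hz g, (cjE_rho g z).symm⟩)
      · refine Subring.subset_closure (Or.inr ⟨c, DFunLike.ext _ _ fun v => ?_⟩)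
        change c • v = g • c • g⁻¹ • v
        rw [smul_comm, smul_inv_smul])
    exact this ha
  by_cases hid : ∀ f ∈ K, f * f = f → f = 0 ∨ f = 1
  swap
  · push Not at hid
    obtain ⟨f0, h0, h1, h2, h3⟩ := hid
    exact Or.inr (DI.imp hs hi K hK hKg
      (fun a ha c v => (DFunLike.congr_fun (hσK c a ha) v).symm) h0 h1 h2 h3)
  left
  have hred : ∀ a ∈ K, IsNilpotent a → a = 0 := by
    obtain ⟨v, hv, hm⟩ := exists_max_bdd {v : V | v ≠ 0}
      (fun v => {a | a ∈ K ∧ IsNilpotent a ∧ a v = 0}.ncard) (Nat.card (AddMonoid.End V))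
      (fun v _ => Set.ncard_le_card _) (exists_ne 0)
    have h1 : ∀ a ∈ K, IsNilpotent a → a v = 0 := by
      intro a ha hnil
      by_contra hav
      have hex : ∃ j, (a ^ j) v = 0 := by
        obtain ⟨j, hj⟩ := hnil
        exact ⟨j, by rw [hj]; rfl⟩
      have hj := Nat.find_spec hex
      obtain ⟨j, hj'⟩ : ∃ j, Nat.find hex = j + 1 := Nat.exists_eq_succ_of_ne_zero fun h => by
        rw [h] at hj; exact hv hj
      have hj2 := Nat.find_min hex (m := j) (by omega)
      rw [hj', pow_succ'] at hj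
      have h3 := hm _ hj2
      have h4 : {a | a ∈ K ∧ IsNilpotent a ∧ a v = 0} ⊂
          {b | b ∈ K ∧ IsNilpotent b ∧ b ((a ^ j) v) = 0} := by
        refine ⟨fun b ⟨b1, b2, b3⟩ => ⟨b1, b2, ?_⟩, fun h => hav (h ⟨ha, hnil, hj⟩).2.2⟩
        have := DFunLike.congr_fun (hK b b1 _ (pow_mem ha j)) v
        change b ((a ^ j) v) = (a ^ j) (b v) at this
        rw [this, b3, map_zero]
      exact absurd (Set.ncard_lt_ncard h4) (not_lt.2 h3)
    let U : AddSubgroup V :=
      { carrier := {v | ∀ a ∈ K, IsNilpotent a → a v = 0}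
        add_mem' := fun {v w} hv hw a ha hn => by rw [map_add, hv a ha hn, hw a ha hn, add_zero]
        zero_mem' := fun a _ _ => map_zero a
        neg_mem' := fun {v} hv a ha hn => by rw [map_neg, hv a ha hn, neg_zero] }
    rcases hi.2 U (fun g v hv a ha hn => by
      have := hv (cjE g⁻¹ a) (hKg _ _ ha) (hn.map _)
      rw [cjE_apply, inv_inv, smul_eq_zero_iff_eq] at this
      exact this) with h | h
    · have : v ∈ U := h1
      rw [h] at this
      exact absurd (AddSubgroup.mem_bot.1 this) hv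
    · intro a ha hn
      ext w
      have : w ∈ U := h ▸ AddSubgroup.mem_top w
      exact this a ha hn
  have hfield : IsField K := ⟨⟨0, 1, fun h => by
      obtain ⟨v, hv⟩ := exists_ne (0 : V)
      exact hv (DFunLike.congr_fun (congrArg Subtype.val h) v).symm⟩,
    fun a b => Subtype.ext (hK a a.2 b b.2), fun {a} ha => by
      obtain ⟨m, hm, h⟩ := exists_pow_idem a.1
      rcases hid _ (pow_mem a.2 m) h with h0 | h0
      · exact absurd (Subtype.ext (hred a a.2 ⟨m, h0⟩)) ha
      · obtain ⟨m, rfl⟩ : ∃ r, m = r + 1 := ⟨m - 1, by omega⟩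
        exact ⟨a ^ m, Subtype.ext (by rw [pow_succ'] at h0; exact h0)⟩⟩
  letI : Field K := hfield.toField
  letI iM : Module K V := inferInstanceAs (Module K V)
  letI : Algebra K₀ K :=
    (σ.codRestrict K fun c => Subring.subset_closure (Or.inr ⟨c, rfl⟩)).toAlgebra
  refine ⟨K, inferInstance, inferInstance, iM, inferInstance, ⟨fun c k v => rfl⟩,
    fun g a => ⟨⟨cjE g a.1, hKg g _ a.2⟩, fun v => (cjE_smul g a.1 v).symm⟩,
    fun D hD hl hDc d hd => ?_⟩
  have hDZ : ∀ d ∈ D, ∀ z ∈ Z, d * z = z * d := fun d hd z hz =>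
    FaithfulSMul.eq_of_smul_eq_smul (α := V) fun v => by
      rw [mul_smul, mul_smul]
      exact hl d hd ⟨ρ z, Subring.subset_closure (Or.inl ⟨z, hz, rfl⟩)⟩ v
  have h1 : D ⊔ Z ≤ Z := hZm ⟨inferInstance, fun a ha b hb => by
    obtain ⟨a1, ha1, a2, ha2, rfl⟩ := mem_sup_of_normal_left.1 ha
    obtain ⟨b1, hb1, b2, hb2, rfl⟩ := mem_sup_of_normal_left.1 hb
    exact (Commute.mul_left (Commute.mul_right (hDc _ ha1 _ hb1) (hDZ _ ha1 _ hb2))
      (Commute.mul_right (hDZ _ hb1 _ ha2).symm (hZc _ ha2 _ hb2))).eq⟩ le_sup_right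
  exact ⟨⟨ρ d, Subring.subset_closure (Or.inl ⟨d, h1 (mem_sup_left hd), rfl⟩)⟩, fun v => rfl⟩


end H90.KC
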