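import Mathlib
import Cfsg.Agent.Base
import Cfsg.Agent.Lib.KCl.Defs

set_option autoImplicit false
set_option linter.unusedSectionVars false

universe u

namespace H90.KC

open Subgroup MulAction H83.Base
open scoped commutatorElement

variable {G : Type u} {V K : Type*} [Group G] [Finite G] [AddCommGroup V] [Finite V] [Nontrivial V]
  [DistribMulAction G V] [FaithfulSMul G V] [Field K] [Finite K] [Module K V]

theorem index_lin_le (K₀ : Type*) [Field K₀] [Module K₀ V] [SMulCommClass G K₀ V] [Algebra K₀ K]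
    [IsScalarTower K₀ K V] (semi : ∀ (g : G) (k : K), ∃ k' : K, ∀ v : V, g • k • v = k' • g • v) :
    (LinS G K V).index ≤ Module.finrank K₀ K := by
  choose σ hσ using semi
  obtain ⟨v0, hv0⟩ := exists_ne (0 : V)
  have uniq : ∀ (g : G) {k l : K}, k • g • v0 = l • g • v0 → k = l := fun g k l h =>
    smul_left_injective K (fun e => hv0 ((smul_eq_zero_iff_eq g).1 e) : g • v0 ≠ 0) h
  let τ : G → (K →ₐ[K₀] K) := fun g =>
    { toFun := σ g
      map_one' := uniq g (by rw [← hσ, one_smul, one_smul])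
      map_mul' := fun a b => uniq g (by rw [← hσ, mul_smul, mul_smul, hσ, hσ])
      map_zero' := uniq g (by rw [← hσ, zero_smul, zero_smul, smul_zero])
      map_add' := fun a b => uniq g (by rw [← hσ, add_smul, add_smul, smul_add, hσ, hσ])
      commutes' := fun c => uniq g (by rw [← hσ, algebraMap_smul, algebraMap_smul, smul_comm]) }
  haveI : Finite (K →ₐ[K₀] K) := Finite.of_injective _ DFunLike.coe_injective
  refine le_trans (Nat.card_le_card_of_injective (fun q : G ⧸ LinS G K V => τ q.out)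
    fun a b h => ?_) (card_algHom_le_finrank K₀ K K)
  rw [← QuotientGroup.out_eq' a, ← QuotientGroup.out_eq' b]
  refine QuotientGroup.eq.2 fun k v => ?_
  have e : σ a.out k = σ b.out k := DFunLike.congr_fun h k
  rw [mul_smul, mul_smul, inv_smul_eq_iff, hσ, hσ, smul_inv_smul, e]

theorem card_scal_dvd : Nat.card (ScalS G K V) ∣ Nat.card K - 1 := by
  choose χ hχ using fun s : ScalS G K V => s.2
  obtain ⟨v, hv⟩ := exists_ne (0 : V)
  let φ : ScalS G K V →* K := ⟨⟨χ, smul_left_injective K hv (by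
    simp only [← hχ, OneMemClass.coe_one, one_smul])⟩, fun a b => smul_left_injective K hv (by
    simp only [← hχ, coe_mul, mul_smul])⟩
  rw [← Nat.card_units]
  exact card_dvd_of_injective φ.toHomUnits fun a b h =>
    Subtype.ext (FaithfulSMul.eq_of_smul_eq_smul (α := V) fun v => by
      rw [hχ, hχ]; exact congrArg (fun u : Kˣ => (u : K) • v) h)

theorem relIndex_le_sq {B : Subgroup G} (hΛ : B ≤ LinS G K V)
    (hc : ∀ x ∈ B, ∀ y ∈ B, ⁅x, y⁆ ∈ ScalS G K V)
    (hcen : ∀ g ∈ B, (∀ x ∈ B, Commute g x) → g ∈ ScalS G K V) :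
    (ScalS G K V).relIndex B ≤ Module.finrank K V ^ 2 := by
  classical
  let ρ : B → Module.End K V := fun b =>
    { toFun := fun v => b.1 • v
      map_add' := smul_add _
      map_smul' := hΛ b.2 }
  have hρ : ∀ b v, ρ b v = b.1 • v := fun _ _ => rfl
  choose χ hχ using fun a b : B => hc a a.2 b b.2
  let X := B ⧸ (ScalS G K V).subgroupOf B
  let T : B → Module.End K V →+ Module.End K V := fun y =>
    (AddMonoidHom.mulLeft (ρ y)).comp (AddMonoidHom.mulRight (ρ y⁻¹))
  have hT : ∀ y f, T y f = ρ y * (f * ρ y⁻¹) := fun _ _ => rfl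
  have hinj : Function.Injective fun (c : X) (y : B) => χ y c.out := fun a b h => by
    rw [← QuotientGroup.out_eq' a, ← QuotientGroup.out_eq' b]
    refine QuotientGroup.eq.2 (hcen _ (a.out⁻¹ * b.out).2 fun y hy => ?_)
    have e : ⁅y, a.out.1⁆ = ⁅y, b.out.1⁆ := FaithfulSMul.eq_of_smul_eq_smul (α := V) fun v => by
      rw [hχ ⟨y, hy⟩, hχ ⟨y, hy⟩]; exact congrArg (· • v) (congrFun h ⟨y, hy⟩)
    change (a.out.1⁻¹ * b.out.1) * y = y * (a.out.1⁻¹ * b.out.1)
    have e2 : y⁻¹ * (y * a.out.1 * y⁻¹ * a.out.1⁻¹) = y⁻¹ * (y * b.out.1 * y⁻¹ * b.out.1⁻¹) :=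
      congrArg (y⁻¹ * ·) e
    calc (a.out.1⁻¹ * b.out.1) * y
        = a.out.1⁻¹ * (y⁻¹ * (y * b.out.1 * y⁻¹ * b.out.1⁻¹))⁻¹ * b.out.1 := by group
      _ = _ := by rw [← e2]; group
  have hli : LinearIndependent K fun c : X => ρ c.out := linearIndependent_iff'.2 fun s g h0 c hc' => by
    have := wt_indep T (fun y k f => by rw [hT, hT, smul_mul_assoc, mul_smul_comm])
      (fun (c : X) (y : B) => χ y c.out) s hinj.injOn (fun c => g c • ρ c.out) (fun c _ y => by
        rw [hT, smul_mul_assoc, mul_smul_comm, smul_comm]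
        congr 1
        ext v
        simp only [Module.End.mul_apply, hρ, LinearMap.smul_apply, ← hχ, ← mul_smul]
        simp [commutatorElement_def, mul_assoc]) h0 c hc'
    refine (smul_eq_zero.1 this).resolve_right fun h => ?_
    obtain ⟨v, hv⟩ := exists_ne (0 : V)
    have h2 : c.out.1 • v = 0 := DFunLike.congr_fun h v
    exact hv ((smul_eq_zero_iff_eq _).1 h2)
  letI : Fintype X := Fintype.ofFinite X
  have := hli.fintype_card_le_finrank
  rwa [Module.finrank_linearMap, ← sq, ← Nat.card_eq_fintype_card] at this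

end H90.KC
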