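import Mathlib
import Cfsg.Agent.Base
import Cfsg.Agent.Lib.KCl.Defs
import Cfsg.Agent.Lib.Core.GrpBasic

/-! Dixon's bound for the order of a solvable permutation group. -/

set_option autoImplicit false
set_option linter.unusedSectionVars false

universe u v

namespace H90.KC

open Subgroup MulAction H83.Base
open scoped commutatorElement

namespace DX

theorem small : ∀ m < 64, ∀ j < 6, 2 ^ j ≤ m → m.descFactorial (j + 1) ≤ 3 ^ (m - 1) := by
  decide +kernel

theorem sq_le_pow (L : ℕ) (h : 6 ≤ L) : (L + 1) * (L + 1) + 1 ≤ 2 ^ L := by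
  induction L, h using Nat.le_induction with
  | base => norm_num
  | succ L hL ih => rw [pow_succ]; nlinarith

theorem arith (m j : ℕ) (h : 2 ^ j ≤ m) : m.descFactorial (j + 1) ≤ 3 ^ (m - 1) := by
  by_cases hm : m < 64
  · refine small m hm j ?_ h
    by_contra hj
    have : 2 ^ 6 ≤ 2 ^ j := Nat.pow_le_pow_right (by norm_num) (by omega)
    omega
  · have hm0 : m ≠ 0 := by omega
    set L := Nat.log 2 m with hL
    have h1 : 2 ^ L ≤ m := Nat.pow_log_le_self 2 hm0
    have h2 : m < 2 ^ (L + 1) := Nat.lt_pow_succ_log_self (by norm_num) m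
    have h3 : j ≤ L := Nat.le_log_of_pow_le (by norm_num) h
    have h4 : 6 ≤ L := Nat.le_log_of_pow_le (by norm_num) (by omega)
    have h5 := sq_le_pow L h4
    calc m.descFactorial (j + 1) ≤ m ^ (j + 1) := Nat.descFactorial_le_pow _ _
      _ ≤ m ^ (L + 1) := Nat.pow_le_pow_right (by omega) (by omega)
      _ ≤ (2 ^ (L + 1)) ^ (L + 1) := Nat.pow_le_pow_left h2.le _
      _ = 2 ^ ((L + 1) * (L + 1)) := by rw [← pow_mul]
      _ ≤ 2 ^ (m - 1) := Nat.pow_le_pow_right (by norm_num) (by omega)
      _ ≤ 3 ^ (m - 1) := Nat.pow_le_pow_left (by norm_num) _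

/-- a faithful group with a transitive abelian normal subgroup -/
theorem affine {G Ω : Type*} [Group G] [Finite G] [Finite Ω] [MulAction G Ω] [FaithfulSMul G Ω]
    (N : Subgroup G) [hN : N.Normal] (hne : N ≠ ⊥) (hc : ∀ a ∈ N, ∀ b ∈ N, a * b = b * a) (x : Ω)
    (htr : ∀ y, ∃ n ∈ N, n • x = y) : Nat.card G ≤ 3 ^ (Nat.card Ω - 1) := by
  classical
  have reg : ∀ a ∈ N, ∀ b ∈ N, a • x = b • x → a = b := by
    intro a ha b hb e
    refine eq_of_smul_eq_smul (α := Ω) fun y => ?_
    obtain ⟨n, hn, rfl⟩ := htr y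
    rw [← mul_smul, hc a ha n hn, mul_smul, e, ← mul_smul, hc n hn b hb, mul_smul]
  obtain ⟨x0, hx0⟩ := (N.ne_bot_iff_exists_ne_one).1 hne
  letI : CommGroup N := { (inferInstance : Group N) with
    mul_comm := fun a b => Subtype.ext (hc _ a.2 _ b.2) }
  obtain ⟨k, y, hch, -, -⟩ := exists_chain (fun _ => True) x0 hx0 trivial (fun Y hY _ => by
    by_contra hcon
    exact hY (eq_top_iff.2 fun a _ => by by_contra ha; exact hcon ⟨a, ha, trivial⟩))
  have h2 : 2 ^ (k + 1) ≤ Nat.card N := hch.pow_le fun d _ hd => hd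
  have h3 : Nat.card N ≤ Nat.card Ω :=
    Nat.card_le_card_of_injective (fun n : N => (n : G) • x)
      fun a b e => Subtype.ext (reg _ a.2 _ b.2 e)
  -- the base
  let z : Fin (k + 2) → N := fun i => if i.1 = k + 1 then 1 else y i.1
  have hz : Function.Injective z := by
    intro i j e
    have hi := i.2
    have hj := j.2
    apply Fin.ext
    simp only [z] at e
    split_ifs at e with h1 h2' h2'
    · omega
    · exact absurd e.symm (hch.ne_one (by omega))
    · exact absurd e (hch.ne_one (by omega))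
    · exact hch.inj (by omega) (by omega) e
  let f : G → (Fin (k + 2) ↪ Ω) := fun g => ⟨fun i => g • ((z i : G) • x), fun i j e =>
    hz (Subtype.ext (reg _ (z i).2 _ (z j).2 (MulAction.injective g e)))⟩
  have key : ∀ a : G, (∀ i, a • ((z i : G) • x) = (z i : G) • x) → a = 1 := by
    intro a ha
    have h0 : a • x = x := by simpa [z] using ha ⟨k + 1, by omega⟩
    have h0' : a⁻¹ • x = x := by rw [inv_smul_eq_iff, h0]
    have hfix := hch.fix_top (MulAut.conjNormal a : N ≃* N).toMonoidHom (fun i hi => by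
      have h1 := ha ⟨i, by omega⟩
      have h4 : z ⟨i, by omega⟩ = y i := by simp only [z]; rw [if_neg (by omega)]
      rw [h4] at h1
      apply Subtype.ext
      refine reg _ (Subtype.property _) _ (y i).2 ?_
      change (a * y i * a⁻¹) • x = _
      rw [mul_smul, mul_smul, h0', h1])
    refine eq_of_smul_eq_smul (α := Ω) fun w => ?_
    obtain ⟨n, hn, rfl⟩ := htr w
    have h5 : a * n * a⁻¹ = n := congrArg Subtype.val (hfix ⟨n, hn⟩)
    rw [one_smul]
    conv_rhs => rw [← h5, mul_smul, mul_smul, h0']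
  have hf : Function.Injective f := by
    intro g h e
    have := key (h⁻¹ * g) fun i => by
      have h1 : g • ((z i : G) • x) = h • ((z i : G) • x) := DFunLike.congr_fun e i
      rw [mul_smul, h1, inv_smul_smul]
    exact (inv_mul_eq_one.1 this).symm
  have h4 := Nat.card_le_card_of_injective f hf
  have := Fintype.ofFinite Ω
  rw [Nat.card_eq_fintype_card (α := Fin (k + 2) ↪ Ω), Fintype.card_embedding_eq, Fintype.card_fin,
    ← Nat.card_eq_fintype_card] at h4
  exact h4.trans (arith _ (k + 1) (h2.trans h3))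

/-- the fibre of an invariant map -/
def fib (K : Type*) {Ω B : Type*} [Group K] [MulAction K Ω] (π : Ω → B)
    (h : ∀ (k : K) x, π (k • x) = π x) (b : B) : SubMulAction K Ω where
  carrier := {x | π x = b}
  smul_mem' k x hx := (h k x).trans hx

theorem card_le_prod (K : Type*) {Ω B : Type*} [Group K] [MulAction K Ω] [FaithfulSMul K Ω]
    [Fintype B] (π : Ω → B) (h : ∀ (k : K) x, π (k • x) = π x) :
    Nat.card K ≤ ∏ b, (toPermHom K (fib K π h b)).ker.index := by
  have h1 : ⨅ b, (toPermHom K (fib K π h b)).ker = ⊥ := by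
    refine eq_bot_iff.2 fun k hk => ?_
    rw [mem_iInf] at hk
    refine mem_bot.2 (eq_of_smul_eq_smul (α := Ω) fun x => ?_)
    have := DFunLike.congr_fun (MonoidHom.mem_ker.1 (hk (π x))) ⟨x, rfl⟩
    rw [one_smul]
    exact congrArg Subtype.val this
  rw [← index_bot, ← h1]
  exact index_iInf_le _

/-- the action on the orbits of a normal subgroup -/
@[reducible] def orbAct {G : Type*} (Ω : Type*) [Group G] [MulAction G Ω] (N : Subgroup G)
    [hN : N.Normal] : MulAction G (orbitRel.Quotient N Ω) where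
  smul g := Quotient.map' (g • ·) (by
    rintro a b ⟨n, hn⟩
    refine ⟨⟨g * n * g⁻¹, hN.conj_mem _ n.2 g⟩, ?_⟩
    have hn' : (n : G) • b = a := hn
    change (g * n * g⁻¹) • g • b = g • a
    rw [mul_smul, inv_smul_smul, mul_smul, hn'])
  one_smul q := Quotient.inductionOn' q fun a => congrArg Quotient.mk'' (one_smul G a)
  mul_smul g h q := Quotient.inductionOn' q fun a => congrArg Quotient.mk'' (mul_smul g h a)

theorem of_range {G : Type*} {Ω : Type v} [Group G] [Finite Ω] [MulAction G Ω]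
    (hs : Group.IsSolvable G)
    (h : ∀ S : Subgroup (Equiv.Perm Ω), Group.IsSolvable S → Nat.card S ≤ 3 ^ (Nat.card Ω - 1)) :
    (toPermHom G Ω).ker.index ≤ 3 ^ (Nat.card Ω - 1) := by
  rw [index_ker]
  exact h _ (Group.isSolvable_of_surjective (toPermHom G Ω).rangeRestrict_surjective)

theorem main (m : ℕ) : ∀ (Ω : Type v) [Finite Ω], Nat.card Ω = m →
    ∀ S : Subgroup (Equiv.Perm Ω), Group.IsSolvable S → Nat.card S ≤ 3 ^ (Nat.card Ω - 1) := by
  classical
  induction m using Nat.strong_induction_on with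
  | _ m ih =>
  intro Ω _ hm S hS
  by_cases hb : (⊤ : Subgroup S) = ⊥
  · have : Nat.card S = 1 := by rw [← card_top, hb, card_bot]
    rw [this]
    exact Nat.one_le_pow _ _ (by norm_num)
  obtain ⟨N, p, -, hN, hne, -, hcomm, -⟩ :=
    H1.exists_elementary_abelian_normal_le (⊤ : Subgroup S) hb inferInstance
  have hc : ∀ a ∈ N, ∀ b ∈ N, a * b = b * a := fun a ha b hb =>
    congrArg Subtype.val (hcomm.is_comm.comm (⟨a, ha⟩ : N) ⟨b, hb⟩)
  obtain ⟨n0, hn0⟩ := (N.ne_bot_iff_exists_ne_one).1 hne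
  obtain ⟨x, hx⟩ : ∃ x : Ω, (n0 : S) • x ≠ x := by
    by_contra hcon
    push Not at hcon
    exact hn0 (Subtype.ext (eq_of_smul_eq_smul (α := Ω) fun w => by rw [hcon]; simp))
  by_cases htr : ∀ y, ∃ n ∈ N, n • x = y
  · exact affine N hne hc x htr
  push Not at htr
  obtain ⟨y, hy⟩ := htr
  let B := orbitRel.Quotient N Ω
  let π : Ω → B := Quotient.mk''
  have hπ : Function.Surjective π := Quotient.mk''_surjective
  letI := orbAct Ω N
  have := Fintype.ofFinite Ω
  have := Fintype.ofFinite B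
  have hlt : Nat.card B < Nat.card Ω := by
    rw [Nat.card_eq_fintype_card, Nat.card_eq_fintype_card]
    exact Fintype.card_lt_of_surjective_not_injective π hπ fun hi =>
      hx (hi (Quotient.sound' ⟨n0, rfl⟩))
  have hxy : π y ≠ π x := fun e => by
    obtain ⟨n, hn⟩ := Quotient.exact' e
    exact hy n n.2 hn
  set K := (toPermHom S B).ker with hK
  have h1 : K.index ≤ 3 ^ (Nat.card B - 1) := of_range hS (ih _ (hm ▸ hlt) B rfl)
  have hinv : ∀ (k : K) w, π (k • w) = π w := fun k w =>
    DFunLike.congr_fun (MonoidHom.mem_ker.1 k.2) (π w)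
  have h2 := card_le_prod K π hinv
  have h3 : ∀ b, (toPermHom K (fib K π hinv b)).ker.index ≤ 3 ^ (Nat.card {w // π w = b} - 1) := by
    intro b
    refine of_range inferInstance (ih _ ?_ _ rfl)
    rw [← hm]
    by_cases e : π x = b
    · exact Finite.card_subtype_lt (p := fun w => π w = b) (x := y) fun e' => hxy (e'.trans e.symm)
    · exact Finite.card_subtype_lt (p := fun w => π w = b) (x := x) e
  have h4 : ∑ b, Nat.card {w // π w = b} = Nat.card Ω := by
    rw [← Nat.card_sigma]
    exact Nat.card_congr (Equiv.sigmaFiberEquiv π)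
  have h5 : ∑ b, (Nat.card {w // π w = b} - 1) + Nat.card B = Nat.card Ω := by
    rw [← h4, Nat.card_eq_fintype_card (α := B), Fintype.card_eq_sum_ones, ← Finset.sum_add_distrib]
    refine Finset.sum_congr rfl fun b _ => ?_
    obtain ⟨w, hw⟩ := hπ b
    have : Nonempty {w // π w = b} := ⟨⟨w, hw⟩⟩
    have : 0 < Nat.card {w // π w = b} := Nat.card_pos
    omega
  have h6 : Nat.card K ≤ 3 ^ ∑ b, (Nat.card {w // π w = b} - 1) := by
    rw [← Finset.prod_pow_eq_pow_sum]
    exact h2.trans (Finset.prod_le_prod' fun b _ => h3 b)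
  have : Nonempty B := ⟨π x⟩
  have h7 : 0 < Nat.card B := Nat.card_pos
  rw [← K.card_mul_index, show Nat.card Ω - 1 =
    ∑ b, (Nat.card {w // π w = b} - 1) + (Nat.card B - 1) by omega, pow_add]
  exact Nat.mul_le_mul h6 h1

end DX

theorem index_le_factorial (G Ω : Type*) [Group G] [Finite Ω] [MulAction G Ω] :
    (toPermHom G Ω).ker.index ≤ (Nat.card Ω).factorial := by
  rw [index_ker, ← Nat.card_perm]
  exact card_le_card_group _

theorem dixon (G Ω : Type*) [Group G] [Finite G] [Finite Ω] [MulAction G Ω]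
    (hs : Group.IsSolvable G) : (toPermHom G Ω).ker.index ≤ 3 ^ (Nat.card Ω - 1) :=
  DX.of_range hs (DX.main _ Ω rfl)

end H90.KC
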