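import Mathlib
import Cfsg.Agent.Base
import Cfsg.Agent.Lib.KCl.Defs
import Cfsg.Agent.Lib.FF.EAGL
import Cfsg.Agent.Lib.Core.Fitting

set_option autoImplicit false
set_option linter.unusedSectionVars false

universe u

namespace H90.KC

open Subgroup MulAction H83.Base
open scoped commutatorElement

namespace E4

variable {Q W : Type*} [Group Q] [Finite Q] [AddCommGroup W] [Finite W]
  [DistribMulAction Q W] [FaithfulSMul Q W]

variable (W) in
/-- the vectors fixed by a subgroup -/
def Fx (P : Subgroup Q) : AddSubgroup W where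
  carrier := {v | ∀ g ∈ P, g • v = v}
  zero_mem' := fun g _ => smul_zero g
  add_mem' := fun ha hb g hg => by rw [smul_add, ha g hg, hb g hg]
  neg_mem' := fun ha g hg => by rw [smul_neg, ha g hg]

theorem eq_bot {P : Subgroup Q} (h : Fx W P = ⊤) : P = ⊥ :=
  eq_bot_iff.2 fun g hg => FaithfulSMul.eq_of_smul_eq_smul (M := Q) (α := W) fun v => by
    rw [one_smul]
    exact (h.ge (AddSubgroup.mem_top v) : v ∈ Fx W P) g hg

theorem cong {p : ℕ} [Fact p.Prime] {P : Subgroup Q} (hP : IsPGroup p P) (U : AddSubgroup W)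
    (hU : ∀ g ∈ P, ∀ v ∈ U, g • v ∈ U) :
    Nat.card U ≡ Nat.card (U ⊓ Fx W P : AddSubgroup W) [MOD p] := by
  let _ : MulAction P U :=
    { smul := fun g v => ⟨g.1 • v.1, hU _ g.2 _ v.2⟩
      one_smul := fun v => Subtype.ext (one_smul _ _)
      mul_smul := fun a b v => Subtype.ext (mul_smul _ _ _) }
  have := hP.card_modEq_card_fixedPoints U
  rwa [Nat.card_congr (show fixedPoints P U ≃ (U ⊓ Fx W P : AddSubgroup W) from
    ⟨fun v => ⟨v.1.1, v.1.2, fun g hg => congrArg Subtype.val (v.2 ⟨g, hg⟩)⟩,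
      fun v => ⟨⟨v.1, v.2.1⟩, fun g => Subtype.ext (v.2.2 g.1 g.2)⟩, fun _ => rfl, fun _ => rfl⟩)] at this

theorem cent_le (h : Nat.card W = 16) {p : ℕ} (hp : p = 5 ∨ p = 7) {P : Subgroup Q} (hP : Nat.card P = p) :
    Nat.card (centralizer (P : Set Q)) ≤ 16 := by
  have : Fact p.Prime := ⟨by rcases hp with rfl | rfl <;> norm_num⟩
  have hP' : IsPGroup p P := IsPGroup.of_card (n := 1) (by rw [hP, pow_one])
  have ne : Fx W P ≠ ⊤ := fun e => by
    rw [eq_bot e, card_bot] at hP
    omega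
  have m1 := cong hP' (⊤ : AddSubgroup W) fun _ _ _ _ => AddSubgroup.mem_top _
  have m2 : Nat.card (Fx W P) ∣ 16 := h ▸ AddSubgroup.card_addSubgroup_dvd_card _
  have m3 : Nat.card (Fx W P) ≠ 16 := fun e => ne ((AddSubgroup.card_eq_iff_eq_top _).1 (e.trans h.symm))
  rw [top_inf_eq, AddSubgroup.card_top, h] at m1
  have m4 : Nat.card (Fx W P) ≤ 2 ∧ ∀ n, n ∣ 16 → Nat.card (Fx W P) < n →
      n ≡ Nat.card (Fx W P) [MOD p] → n = 16 := by
    have := Nat.le_of_dvd (by norm_num) m2
    generalize Nat.card (Fx W P) = m at m1 m2 m3 this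
    unfold Nat.ModEq at m1 ⊢
    rcases hp with rfl | rfl
    · obtain rfl : m = 1 := by interval_cases m <;> omega
      refine ⟨by norm_num, fun n h1 h2 h3 => ?_⟩
      have := Nat.le_of_dvd (by norm_num) h1
      interval_cases n <;> omega
    · have : m = 2 := by interval_cases m <;> omega
      subst this
      refine ⟨le_rfl, fun n h1 h2 h3 => ?_⟩
      have := Nat.le_of_dvd (by norm_num) h1
      interval_cases n <;> omega
  obtain ⟨u, hu⟩ : ∃ u, u ∉ Fx W P := by
    by_contra e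
    push Not at e
    exact ne (eq_top_iff.2 fun v _ => e v)
  have key : ∀ c ∈ centralizer (P : Set Q), c • u = u → c = 1 := fun c hc hcu => by
    have fz : ∀ v : W, c • v = v → v ∈ Fx W (zpowers c) := fun v hv g hg =>
      (zpowers_le.2 (show c ∈ stabilizer Q v from hv) hg : g ∈ stabilizer Q v)
    have a1 : Fx W P ≤ Fx W (zpowers c) := fun v hv => fz v (by
      by_cases v0 : v = 0
      · rw [v0, smul_zero]
      have b1 : c • v ∈ Fx W P := fun g hg => by rw [← mul_smul, hc g hg, mul_smul, hv g hg]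
      by_contra b2
      have b3 : c • v ≠ 0 := fun e => v0 ((smul_eq_zero_iff_eq c).1 e)
      have b4 : ({0, v, c • v} : Set W) ⊆ Fx W P := by
        rintro w (rfl | rfl | rfl)
        exacts [zero_mem _, hv, b1]
      have b5 := Set.ncard_le_ncard b4 (Set.toFinite _)
      rw [Set.ncard_eq_three.2 ⟨_, _, _, Ne.symm v0, b3.symm, Ne.symm b2, rfl⟩] at b5
      have : (Fx W P : Set W).ncard = Nat.card (Fx W P) := rfl
      omega)
    have a2 := cong hP' (Fx W (zpowers c)) fun g hg v hv => fz _ (by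
      rw [← mul_smul, ← hc g hg, mul_smul, hv c (mem_zpowers c)])
    rw [inf_eq_right.2 a1] at a2
    have a3 := m4.2 _ (h ▸ AddSubgroup.card_addSubgroup_dvd_card (Fx W (zpowers c)))
      (lt_of_not_ge fun e => hu (AddSubgroup.eq_of_le_of_card_ge a1 e ▸ fz u hcu)) a2
    exact zpowers_eq_bot.1 (eq_bot ((AddSubgroup.card_eq_iff_eq_top _).1 (a3.trans h.symm)))
  rw [← h]
  refine Nat.card_le_card_of_injective (fun c => c.1 • u) fun a b e => Subtype.ext ?_
  have := key (b.1⁻¹ * a.1) (mul_mem (inv_mem b.2) a.2) (by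
    rw [mul_smul, inv_smul_eq_iff]; exact e)
  exact (inv_mul_eq_one.1 this).symm

theorem idx_dvd (P : Subgroup Q) [P.Normal] : (centralizer (P : Set Q)).index ∣ Nat.card (MulAut P) := by
  have : (MulAut.conjNormal (H := P)).ker = centralizer (P : Set Q) := by
    ext g
    refine ⟨fun e y hy => ?_, fun e => MulEquiv.ext fun y => Subtype.ext ?_⟩
    · exact (mul_inv_eq_iff_eq_mul.1 (congrArg Subtype.val (MulEquiv.congr_fun e ⟨y, hy⟩))).symm
    · exact mul_inv_eq_iff_eq_mul.2 (e y y.2).symm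
  rw [← this, index_ker]
  exact card_subgroup_dvd_card _

theorem aut9 {F : Type*} [Group F] [Finite F] (h9 : Nat.card F = 9) : Nat.card (MulAut F) ∣ 48 := by
  have : Fact (Nat.Prime 3) := ⟨Nat.prime_three⟩
  have hc : IsMulCommutative F := IsPGroup.isMulCommutative_of_card_eq_prime_sq (p := 3) h9
  by_cases hcy : IsCyclic F
  · rw [IsCyclic.card_mulAut, h9]; decide
  · obtain ⟨e⟩ := H23.nonempty_mulAut_equiv_GL (p := 3) (n := 2) hc (fun w => by
      have h1 : orderOf w ∣ 9 := h9 ▸ orderOf_dvd_natCard w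
      have h2 : orderOf w ≠ 9 := fun e => hcy (isCyclic_of_orderOf_eq_card w (e.trans h9.symm))
      refine orderOf_dvd_iff_pow_eq_one.1 ?_
      have := Nat.le_of_dvd (by norm_num) h1
      generalize orderOf w = m at h1 h2 this
      interval_cases m <;> omega) h9
    rw [Nat.card_congr e.toEquiv, Matrix.card_GL_field]
    simp [Fin.prod_univ_two]

theorem card_dvd (h : Nat.card W = 16) (h2 : ∀ w : W, 2 • w = 0) : Nat.card Q ∣ 20160 := by
  let φ : Q →* MulAut (Multiplicative W) := MonoidHom.mk'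
    (fun g => AddEquiv.toMultiplicative (DistribMulAction.toAddEquiv W g))
    fun a b => MulEquiv.ext fun v => mul_smul a b v.toAdd
  have hφ : Function.Injective φ := fun a b e =>
    FaithfulSMul.eq_of_smul_eq_smul (M := Q) (α := W) fun v => MulEquiv.congr_fun e (.ofAdd v)
  obtain ⟨e⟩ := H23.nonempty_mulAut_equiv_GL (W := Multiplicative W) (p := 2) (n := 4)
    inferInstance (fun w => h2 w.toAdd) h
  have := card_dvd_of_injective φ hφ
  rw [Nat.card_congr e.toEquiv, Matrix.card_GL_field] at this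
  simpa [Fin.prod_univ_four] using this

end E4

theorem card_le_144 {Q W : Type*} [Group Q] [Finite Q] [AddCommGroup W] [Finite W]
    [DistribMulAction Q W] [FaithfulSMul Q W] (hs : Group.IsSolvable Q)
    (hcr : ∀ U : AddSubgroup W, Invt Q U →
      ∃ U' : AddSubgroup W, Invt Q U' ∧ U ⊓ U' = ⊥ ∧ U ⊔ U' = ⊤)
    (h : Nat.card W = 16) : Nat.card Q ≤ 144 := by
  have odd : ∀ U : AddSubgroup W, ¬ 2 ∣ Nat.card U → U = ⊥ := fun U hU => by
    have a : Nat.card U ∣ 2 ^ 4 := by
      rw [show 2 ^ 4 = 16 from rfl, ← h]; exact AddSubgroup.card_addSubgroup_dvd_card _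
    exact AddSubgroup.card_eq_one.1 (Nat.Coprime.eq_one_of_dvd
      (((Nat.Prime.coprime_iff_not_dvd Nat.prime_two).2 hU).symm.pow_right 4) a)
  have h2 : ∀ w : W, 2 • w = 0 := by
    obtain ⟨U', -, a, b⟩ := hcr (nsmulAddMonoidHom (α := W) 2).ker fun g v hv => by
      change 2 • g • v = 0
      rw [← smul_comm, show 2 • v = 0 from hv, smul_zero]
    have : U' = ⊥ := odd U' fun hd => by
      obtain ⟨w, hw⟩ := exists_prime_addOrderOf_dvd_card' 2 hd
      have c : (w : W) ∈ (nsmulAddMonoidHom (α := W) 2).ker ⊓ U' :=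
        ⟨congrArg Subtype.val (hw ▸ addOrderOf_nsmul_eq_zero w : 2 • w = 0), w.2⟩
      rw [a] at c
      rw [show w = 0 from Subtype.ext c, addOrderOf_zero] at hw
      omega
    rw [this, sup_bot_eq] at b
    exact fun w => (b.ge (AddSubgroup.mem_top w) : w ∈ (nsmulAddMonoidHom (α := W) 2).ker)
  have hQ := E4.card_dvd (Q := Q) h h2
  have o2 : Cfsg.pCore 2 Q = ⊥ := by
    obtain ⟨U', i, a, b⟩ := hcr (E4.Fx W (Cfsg.pCore 2 Q)) fun g v hv x hx => by
      have := hv _ ((inferInstance : (Cfsg.pCore 2 Q).Normal).conj_mem' x hx g)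
      rw [mul_smul, mul_smul, inv_smul_eq_iff] at this
      exact this
    have c := E4.cong (H1.isPGroup_pCore (p := 2) (G := Q)) U' fun g _ v hv => i g v hv
    rw [inf_comm, a, AddSubgroup.card_bot] at c
    rw [odd U' (by unfold Nat.ModEq at c; omega), sup_bot_eq] at b
    exact E4.eq_bot b
  have big : ∀ p : ℕ, p = 5 ∨ p = 7 → Cfsg.pCore p Q ≠ ⊥ → Nat.card Q ≤ 144 := fun p hp hne => by
    have : Fact p.Prime := ⟨by rcases hp with rfl | rfl <;> norm_num⟩
    have cP : Nat.card (Cfsg.pCore p Q) = p := by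
      obtain ⟨k, hk⟩ := (H1.isPGroup_pCore (p := p) (G := Q)).exists_card_eq
      have h1 := (card_subgroup_dvd_card (Cfsg.pCore p Q)).trans hQ
      rw [hk] at h1 ⊢
      rcases k with _ | _ | k
      · exact absurd (card_eq_one.1 hk) hne
      · exact pow_one p
      · have : p * p ∣ 20160 := (Dvd.intro (p ^ k) (by ring)).trans h1
        rcases hp with rfl | rfl <;> omega
    have a := E4.cent_le h hp cP
    have b := E4.idx_dvd (Cfsg.pCore p Q)
    have := isCyclic_of_prime_card cP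
    rw [IsCyclic.card_mulAut, cP, Nat.totient_prime Fact.out] at b
    have c := Nat.le_of_dvd (by omega) b
    rw [← card_mul_index (centralizer (Cfsg.pCore p Q : Set Q))]
    exact (Nat.mul_le_mul a (show _ ≤ 6 by omega)).trans (by norm_num)
  by_cases h5 : Cfsg.pCore 5 Q = ⊥
  swap
  · exact big 5 (Or.inl rfl) h5
  by_cases h7 : Cfsg.pCore 7 Q = ⊥
  swap
  · exact big 7 (Or.inr rfl) h7
  have : Fact (Nat.Prime 3) := ⟨Nat.prime_three⟩
  have hF : Cfsg.fittingSubgroup Q ≤ Cfsg.pCore 3 Q := by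
    rw [H1.fitting_eq_iSup_pCore]
    refine iSup_le fun ⟨p, hp⟩ => ?_
    have := Fact.mk hp
    change Cfsg.pCore p Q ≤ _
    by_cases e : Cfsg.pCore p Q = ⊥
    · rw [e]; exact bot_le
    obtain ⟨k, hk⟩ := (H1.isPGroup_pCore (p := p) (G := Q)).exists_card_eq
    have h1 := (card_subgroup_dvd_card (Cfsg.pCore p Q)).trans hQ
    rcases k with _ | k
    · exact absurd (card_eq_one.1 hk) e
    have h3 : p ∣ 2 ^ 6 * 3 ^ 2 * 5 * 7 := (hk ▸ dvd_pow_self p k.succ_ne_zero).trans h1
    rcases (Nat.Prime.dvd_mul hp).1 h3 with h3 | h3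
    · rcases (Nat.Prime.dvd_mul hp).1 h3 with h3 | h3
      · rcases (Nat.Prime.dvd_mul hp).1 h3 with h3 | h3
        · obtain rfl := (Nat.prime_dvd_prime_iff_eq hp Nat.prime_two).1 (hp.dvd_of_dvd_pow h3)
          exact absurd o2 e
        · obtain rfl := (Nat.prime_dvd_prime_iff_eq hp Nat.prime_three).1 (hp.dvd_of_dvd_pow h3)
          exact le_rfl
      · obtain rfl := (Nat.prime_dvd_prime_iff_eq hp Nat.prime_five).1 h3
        exact absurd h5 e
    · obtain rfl := (Nat.prime_dvd_prime_iff_eq hp (by norm_num : Nat.Prime 7)).1 h3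
      exact absurd h7 e
  have hC : centralizer (Cfsg.pCore 3 Q : Set Q) ≤ Cfsg.pCore 3 Q :=
    ((centralizer_le hF).trans H1.centralizer_fitting_le).trans hF
  have i1 := (index_dvd_of_le hC).trans (E4.idx_dvd (Cfsg.pCore 3 Q))
  have i2 := card_mul_index (Cfsg.pCore 3 Q)
  obtain ⟨k, hk⟩ := (H1.isPGroup_pCore (p := 3) (G := Q)).exists_card_eq
  rcases k with _ | _ | _ | k
  · have : Subsingleton (Cfsg.pCore 3 Q) := (Nat.card_eq_one_iff_unique.1 hk).1
    rw [IsCyclic.card_mulAut, hk] at i1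
    have := Nat.le_of_dvd (by decide) i1
    have e : Nat.totient (3 ^ 0) = 1 := by decide
    rw [hk] at i2
    omega
  · have := isCyclic_of_prime_card (p := 3) hk
    rw [IsCyclic.card_mulAut, hk] at i1
    have := Nat.le_of_dvd (by decide) i1
    have e : Nat.totient (3 ^ (0 + 1)) = 2 := by decide
    rw [hk] at i2
    omega
  · have i3 := i1.trans (E4.aut9 hk)
    rw [hk] at i2
    rw [← i2] at hQ ⊢
    have := Nat.le_of_dvd (by norm_num) i3
    generalize (Cfsg.pCore 3 Q).index = s at hQ i3 this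
    interval_cases s <;> omega
  · have h1 := (card_subgroup_dvd_card (Cfsg.pCore 3 Q)).trans hQ
    rw [hk] at h1
    have : 27 ∣ 20160 := (Dvd.intro (3 ^ k) (by ring)).trans h1
    omega

end H90.KC
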