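import Mathlib
import Cfsg.Agent.Base
import Cfsg.Agent.Lib.KCl.Defs
import Cfsg.Agent.Lib.CompW.RankOne
import Cfsg.Agent.S4374

set_option autoImplicit false
set_option linter.unusedSectionVars false

universe u

namespace H90.KC

open Subgroup MulAction H83.Base
open scoped commutatorElement

namespace GEN

/-- a squarefree divisor of the order of an abelian group divides the exponent -/
theorem sqf_dvd_exponent {W : Type*} [AddCommGroup W] [Finite W] {e : ℕ} (he : Squarefree e)
    (h : e ∣ Nat.card W) : e ∣ AddMonoid.exponent W :=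
  he.isRadical _ _ (h.trans (card_dvd_exponent_nsmul_rank W))

theorem cyclic_of_sqf {W : Type*} [AddCommGroup W] [Finite W] (h : Squarefree (Nat.card W)) :
    IsAddCyclic W :=
  IsAddCyclic.of_exponent_eq_card
    (Nat.dvd_antisymm AddGroup.exponent_dvd_nat_card (sqf_dvd_exponent h dvd_rfl))

theorem two_gen {W : Type*} [AddCommGroup W] [Finite W] {e : ℕ} (he : Squarefree e)
    (h : Nat.card W = e ^ 2) : ∃ x y : W, ∀ w : W, ∃ a b : ℤ, w = a • x + b • y := by
  obtain ⟨x, hx⟩ := AddMonoid.exists_addOrderOf_eq_exponent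
    (G := W) AddMonoid.ExponentExists.of_finite
  have h1 : e ∣ addOrderOf x := hx ▸ sqf_dvd_exponent he (h ▸ dvd_pow_self e two_ne_zero)
  have h2 : Nat.card (W ⧸ AddSubgroup.zmultiples x) ∣ e := by
    have h3 := AddSubgroup.card_eq_card_quotient_mul_card_addSubgroup (AddSubgroup.zmultiples x)
    rw [Nat.card_zmultiples, h] at h3
    obtain ⟨c, hc⟩ := h1
    rw [hc] at h3
    have he0 : 0 < e := Nat.pos_of_ne_zero he.ne_zero
    refine ⟨c, Nat.eq_of_mul_eq_mul_left he0 ?_⟩
    rw [← pow_two, h3]; ring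
  have := cyclic_of_sqf (he.squarefree_of_dvd h2)
  obtain ⟨y, hy⟩ := IsAddCyclic.exists_generator (α := W ⧸ AddSubgroup.zmultiples x)
  obtain ⟨y, rfl⟩ := QuotientAddGroup.mk_surjective y
  refine ⟨x, y, fun w => ?_⟩
  obtain ⟨b, hb⟩ := AddSubgroup.mem_zmultiples_iff.1 (hy (w : W ⧸ AddSubgroup.zmultiples x))
  rw [← QuotientAddGroup.mk_zsmul, QuotientAddGroup.eq] at hb
  obtain ⟨a, ha⟩ := AddSubgroup.mem_zmultiples_iff.1 hb
  exact ⟨a, b, by rw [ha]; abel⟩

end GEN

variable {Q W : Type*} [Group Q] [Finite Q] [AddCommGroup W] [Finite W] [DistribMulAction Q W]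
  [FaithfulSMul Q W]

theorem card_le_cube (hs : Group.IsSolvable Q)
    (hcr : ∀ U : AddSubgroup W, Invt Q U →
      ∃ U' : AddSubgroup W, Invt Q U' ∧ U ⊓ U' = ⊥ ∧ U ⊔ U' = ⊤) :
    Nat.card Q ≤ Nat.card W ^ 3 := by
  obtain ⟨v₁, v₂, v₃, hv⟩ := Cfsg.Agent.S4374.result (A := Q) (V := W) hs hcr
  have hinj : Function.Injective (fun g : Q => (g • v₁, g • v₂, g • v₃)) := by
    intro g g' hgg
    simp only [Prod.mk.injEq] at hgg
    have := hv (g⁻¹ * g') (by rw [mul_smul, ← hgg.1, inv_smul_smul])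
      (by rw [mul_smul, ← hgg.2.1, inv_smul_smul]) (by rw [mul_smul, ← hgg.2.2, inv_smul_smul])
    exact inv_mul_eq_one.1 this
  have := Nat.card_le_card_of_injective _ hinj
  rw [Nat.card_prod, Nat.card_prod] at this
  calc _ ≤ _ := this
    _ = _ := by ring

theorem card_le_sq {e : ℕ} (he : Squarefree e) (h : Nat.card W = e ^ 2) : Nat.card Q ≤ e ^ 4 := by
  obtain ⟨x, y, hxy⟩ := GEN.two_gen he h
  have hinj : Function.Injective (fun g : Q => (g • x, g • y)) := by
    intro g g' hgg
    simp only [Prod.mk.injEq] at hgg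
    refine FaithfulSMul.eq_of_smul_eq_smul (α := W) fun w => ?_
    obtain ⟨a, b, rfl⟩ := hxy w
    rw [smul_add, smul_add, smul_comm g a, smul_comm g b, smul_comm g' a, smul_comm g' b,
      hgg.1, hgg.2]
  have := Nat.card_le_card_of_injective _ hinj
  rw [Nat.card_prod, h] at this
  calc _ ≤ _ := this
    _ = _ := by ring

theorem card_dvd_six (h : Nat.card W = 4) : Nat.card Q ∣ 6 := by
  have h1 : Nat.card (MulAut (Multiplicative W)) ∣ 6 :=
    H3.CW.card_mulAut_dvd_six (V := Multiplicative W) (le_of_eq h)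
  refine dvd_trans ?_ h1
  let φ : Q →* MulAut (Multiplicative W) :=
    { toFun := fun g => AddEquiv.toMultiplicative (DistribMulAction.toAddEquiv W g)
      map_one' := by ext w; simp
      map_mul' := fun a b => by ext w; simp [mul_smul] }
  refine Subgroup.card_dvd_of_injective φ fun g g' hgg => ?_
  refine FaithfulSMul.eq_of_smul_eq_smul (α := W) fun w => ?_
  have := congrArg (fun f : MulAut (Multiplicative W) => (f (Multiplicative.ofAdd w)).toAdd) hgg
  simpa [φ] using this

end H90.KC
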