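import Mathlib
import Cfsg.Agent.Base
import Cfsg.Agent.Lib.KCl.CZ
import Cfsg.Agent.S1012

set_option autoImplicit false
set_option linter.unusedSectionVars false

universe u

namespace H90.KC

open Subgroup MulAction H83.Base
open scoped commutatorElement

theorem S4.perm4 : ∀ (σ : Equiv.Perm (Fin 4)) (a : Fin 4), σ a = a →
    σ ^ 2 = 1 ∨ (σ ^ 3 = 1 ∧ ∀ b, σ b = b → b = a) := by decide +kernel

theorem S4.perm {X : Type*} (h : Nat.card X = 4) (σ : Equiv.Perm X) (a : X) (ha : σ a = a) :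
    σ ^ 2 = 1 ∨ (σ ^ 3 = 1 ∧ ∀ b, σ b = b → b = a) := by
  haveI : Finite X := Nat.finite_of_card_ne_zero (by omega)
  let e := Finite.equivFinOfCardEq h
  refine (S4.perm4 (e.permCongrHom σ) (e a) (by simp [ha])).imp (fun h => ?_) fun h => ⟨?_, ?_⟩
  · rwa [← map_pow, MulEquiv.map_eq_one_iff] at h
  · have := h.1
    rwa [← map_pow, MulEquiv.map_eq_one_iff] at this
  · intro b hb
    exact e.injective (h.2 (e b) (by simp [hb]))

theorem S4.card96 : (Finset.univ.filter fun xy : Equiv.Perm (Fin 4) × Equiv.Perm (Fin 4) =>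
    xy.1 = 1 ∨ xy.2 = 1 ∨ xy.1 = xy.2 ∨ xy.1 = xy.2 ^ 2 ∨ xy.2 = xy.1 ^ 2 ∨
      xy.1 = xy.2⁻¹).card = 96 := by decide +kernel

theorem S4.le96 {Q : Type*} [Group Q] [Finite Q] (e : Q ≃* Equiv.Perm (Fin 4)) :
    96 ≤ Nat.card {xy : Q × Q // ∃ g, xy.1 ∈ zpowers g ∧ xy.2 ∈ zpowers g} := by
  rw [← S4.card96, ← Nat.card_eq_finsetCard]
  refine Nat.card_le_card_of_injective (fun t => ⟨(e.symm t.1.1, e.symm t.1.2), ?_⟩) fun a b h => ?_
  · rcases (Finset.mem_filter.1 t.2).2 with h | h | h | h | h | h <;> simp only [h]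
    · exact ⟨_, by simp, mem_zpowers _⟩
    · exact ⟨_, mem_zpowers _, by simp⟩
    · exact ⟨_, mem_zpowers _, mem_zpowers _⟩
    · exact ⟨_, by rw [map_pow]; exact pow_mem (mem_zpowers _) _, mem_zpowers _⟩
    · exact ⟨_, mem_zpowers _, by rw [map_pow]; exact pow_mem (mem_zpowers _) _⟩
    · exact ⟨_, by rw [map_inv]; exact inv_mem (mem_zpowers _), mem_zpowers _⟩
  · have h1 := Subtype.mk.inj h
    exact Subtype.ext (Prod.ext (e.symm.injective (congrArg Prod.fst h1))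
      (e.symm.injective (congrArg Prod.snd h1)))

theorem S4.no6 {Q : Type*} [Group Q] [Finite Q] (W : Subgroup Q) [W.Normal] (h4 : Nat.card W = 4)
    (hc : ∀ g : Q, (∀ w ∈ W, g * w = w * g) → g ∈ W) (g : Q) : orderOf g ≠ 6 := fun h6 => by
  let φ : Q →* Equiv.Perm W := (MulAut.toPerm W).comp MulAut.conjNormal
  have hk : ∀ x, φ x = 1 → x ∈ W := fun x hx => hc x fun w hw =>
    mul_inv_eq_iff_eq_mul.1 (congrArg Subtype.val (DFunLike.congr_fun hx (⟨w, hw⟩ : W)) :)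
  rcases S4.perm h4 (φ g) 1 (map_one (MulAut.conjNormal g)) with h | ⟨h, h'⟩
  · have h1 := orderOf_dvd_natCard (⟨g ^ 2, hk _ (by rw [map_pow, h])⟩ : W)
    rw [← orderOf_coe, h4] at h1
    change orderOf (g ^ 2) ∣ 4 at h1
    rw [orderOf_pow' _ two_ne_zero, h6] at h1
    norm_num at h1
  · have h1 := congrArg Subtype.val (h' ⟨g ^ 3, hk _ (by rw [map_pow, h])⟩
      (Subtype.ext (show g * g ^ 3 * g⁻¹ = g ^ 3 by group)))
    have h2 := orderOf_dvd_of_pow_eq_one (show g ^ 3 = 1 from h1)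
    rw [h6] at h2
    norm_num at h2

theorem cz_s4 {A : Type*} [Group A] [Finite A] (Z B : Subgroup A) [B.Normal] (hZ : Z ≤ center A)
    (hZB : Z ≤ B) (h24 : Z.index = 24) (h4 : Z.relIndex B = 4)
    (hc : ∀ g : A, (∀ b ∈ B, ⁅g, b⁆ ∈ Z) → g ∈ B) : 1 / 6 ≤ commProb A := by
  haveI : Z.Normal := ⟨fun z hz g => by rwa [mem_center_iff.1 (hZ hz) g, mul_inv_cancel_right]⟩
  haveI := Normal.map ‹B.Normal› (QuotientGroup.mk' Z) (QuotientGroup.mk'_surjective Z)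
  have hW : Nat.card (B.map (QuotientGroup.mk' Z)) = 4 := by
    rw [← h4, ← relIndex_ker, QuotientGroup.ker_mk']
  obtain ⟨e⟩ := Cfsg.Agent.S1012.result (G := A ⧸ Z) h24 (S4.no6 _ hW fun g hg => by
    obtain ⟨g, rfl⟩ := QuotientGroup.mk_surjective g
    refine ⟨g, hc g fun b hb => ?_, rfl⟩
    rw [← QuotientGroup.eq_one_iff]
    exact commutatorElement_eq_one_iff_mul_comm.2 (hg b ⟨b, hb, rfl⟩))
  have h1 := (Nat.cast_le (α := ℚ)).2 (S4.le96 e)
  have h2 := cyc_le Z hZ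
  rw [h24] at h2
  push_cast at h1 h2
  linarith

end H90.KC
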