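import Mathlib
import Cfsg.Agent.Base
import Cfsg.Agent.Lib.KCl.Defs
import Cfsg.Agent.Lib.Misc82.PiClass

set_option autoImplicit false
set_option linter.unusedSectionVars false

universe u

namespace H90.KC

open Subgroup MulAction H83.Base
open scoped commutatorElement

variable {W K : Type*} [AddCommGroup W] [Finite W] [Field K] [Finite K]

theorem SQ.card_hom_le (Y : Type*) [AddCommGroup Y] [Finite Y] :
    Nat.card (Y →+ Additive Kˣ) ≤ Nat.card Y := by
  rw [Nat.card_congr AddMonoidHom.toMultiplicativeLeft]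
  exact H83.Base.card_hom_le (Multiplicative Y) K

theorem SQ.skew (β : W →+ W →+ Additive Kˣ) (alt : ∀ x, β x x = 0) (x y : W) :
    β x y = -β y x := by
  have := alt (x + y)
  simp only [map_add, AddMonoidHom.add_apply, alt, zero_add, add_zero] at this
  exact eq_neg_of_add_eq_zero_right this

theorem sq_card (β : W →+ W →+ Additive Kˣ) (alt : ∀ x, β x x = 0)
    (nd : ∀ x, (∀ y, β x y = 0) → x = 0) : ∃ e : ℕ, Nat.card W = e ^ 2 := by
  obtain ⟨T, hT, hm⟩ := Set.Finite.exists_maximal (Set.toFinite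
    {T : AddSubgroup W | ∀ x ∈ T, ∀ y ∈ T, β x y = 0}) ⟨⊥, by simp⟩
  haveI : Finite (T →+ Additive Kˣ) := Finite.of_injective _ DFunLike.coe_injective
  haveI : Finite (W ⧸ T →+ Additive Kˣ) := Finite.of_injective _ DFunLike.coe_injective
  have perp : ∀ x, (∀ t ∈ T, β x t = 0) → x ∈ T := fun x hx => by
    refine hm (y := T ⊔ AddSubgroup.zmultiples x) (fun a ha b hb => ?_) le_sup_left
      (AddSubgroup.mem_sup_right (AddSubgroup.mem_zmultiples x))
    obtain ⟨a, ha', _, ⟨i, rfl⟩, rfl⟩ := AddSubgroup.mem_sup.1 ha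
    obtain ⟨b, hb', _, ⟨j, rfl⟩, rfl⟩ := AddSubgroup.mem_sup.1 hb
    simp [hT a ha' b hb', hx b hb', alt, SQ.skew β alt a x, hx a ha']
  let φ : W →+ T →+ Additive Kˣ := (AddMonoidHom.compHom' T.subtype).comp β
  have hφ : φ.ker = T := by
    ext x
    exact ⟨fun h => perp x fun t ht => DFunLike.congr_fun h ⟨t, ht⟩,
      fun h => AddMonoidHom.ext fun t => hT x h t t.2⟩
  have h1 : T.index ≤ Nat.card T := by
    rw [← hφ, AddSubgroup.index_ker, hφ]
    exact (AddSubgroup.card_le_card_addGroup _).trans (SQ.card_hom_le T)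
  have h2 : Nat.card T ≤ T.index :=
    (Nat.card_le_card_of_injective (fun t : T => QuotientAddGroup.lift T (β t) (hT t t.2))
      fun a b h => Subtype.ext (sub_eq_zero.1 (nd _ fun y => by
        rw [map_sub, AddMonoidHom.sub_apply, sub_eq_zero]
        exact DFunLike.congr_fun h (y : W ⧸ T)))).trans (SQ.card_hom_le (W ⧸ T))
  exact ⟨Nat.card T, by rw [← T.index_mul_card, le_antisymm h1 h2, sq]⟩

theorem dvd_card_sub_one (β : W →+ W →+ Additive Kˣ) (nd : ∀ x, (∀ y, β x y = 0) → x = 0)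
    {r : ℕ} (hr : r.Prime) (h : r ∣ Nat.card W) : r ∣ Nat.card K - 1 := by
  haveI := Fact.mk hr
  obtain ⟨x, hx⟩ := exists_prime_addOrderOf_dvd_card' r h
  have h0 : x ≠ 0 := fun e => hr.one_lt.ne' (by rw [← hx, e, addOrderOf_zero])
  obtain ⟨y, hy⟩ := not_forall.1 (mt (nd x) h0)
  have h1 : addOrderOf (β x y) = r := addOrderOf_eq_prime (by
    rw [← AddMonoidHom.nsmul_apply, ← map_nsmul, ← hx, addOrderOf_nsmul_eq_zero, map_zero,
      AddMonoidHom.zero_apply]) hy
  rw [← Nat.card_units, ← h1]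
  exact addOrderOf_dvd_natCard (β x y)

theorem card_le_24 {Q : Type*} [Group Q] [Finite Q] [DistribMulAction Q W] [FaithfulSMul Q W]
    (Q₀ : Subgroup Q) (β : W →+ W →+ Additive Kˣ) (alt : ∀ x, β x x = 0)
    (nd : ∀ x, (∀ y, β x y = 0) → x = 0) (inv : ∀ g ∈ Q₀, ∀ x y, β (g • x) (g • y) = β x y)
    (h9 : Nat.card W = 9) : Nat.card Q₀ ≤ 24 := by
  haveI : Nontrivial W := Finite.one_lt_card_iff_nontrivial.1 (by omega)
  obtain ⟨x, hx⟩ := exists_ne (0 : W)
  obtain ⟨y, hy⟩ := not_forall.1 (mt (nd x) hx)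
  have dv : ∀ U : AddSubgroup W, U ≠ ⊤ → Nat.card U ≤ 3 := fun U hU => by
    have h1 := U.card_addSubgroup_dvd_card
    have h2 : Nat.card U ≠ 9 := fun e => hU (AddSubgroup.eq_top_of_card_eq U (by rw [e, h9]))
    rw [h9] at h1
    have := Nat.le_of_dvd (by norm_num) h1
    generalize Nat.card U = m at *
    interval_cases m <;> omega
  have inj : ∀ g : Q, g • x = x → g • y = y → g = 1 := fun g h1 h2 => by
    let U : AddSubgroup W := (DistribSMul.toAddMonoidHom W g).eqLocus (AddMonoidHom.id W)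
    by_cases hU : U = ⊤
    · exact FaithfulSMul.eq_of_smul_eq_smul (α := W) fun w => by
        rw [one_smul]; exact (hU.ge (AddSubgroup.mem_top w) :)
    exfalso
    have h3 := dv U hU
    have h4 : AddSubgroup.zmultiples x ≤ U := AddSubgroup.zmultiples_le.2 h1
    have h5 : AddSubgroup.zmultiples x < U := lt_of_le_of_ne h4 fun e => by
      obtain ⟨i, hi⟩ : y ∈ AddSubgroup.zmultiples x := e.ge h2
      exact hy (by rw [← hi]; simp [alt])
    have h6 := AddSubgroup.card_dvd_of_le h4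
    have h7 : Nat.card (AddSubgroup.zmultiples x) ≠ Nat.card U := fun e =>
      h5.ne (AddSubgroup.eq_of_le_of_card_ge h4 e.ge)
    have h8 : Nat.card (AddSubgroup.zmultiples x) ≠ 1 := by
      rw [Nat.card_zmultiples]; exact fun e => hx (AddMonoid.addOrderOf_eq_one_iff.1 e)
    have h10 : 0 < Nat.card U := Nat.card_pos
    have h11 := Nat.le_of_dvd h10 h6
    generalize Nat.card U = m at *
    generalize Nat.card (AddSubgroup.zmultiples x) = k at *
    interval_cases m <;> interval_cases k <;> omega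
  have h1 : Nat.card Q₀ ≤ {p : W × W | β p.1 p.2 = β x y}.ncard := by
    rw [← Nat.card_coe_set_eq]
    refine Nat.card_le_card_of_injective
      (fun g : Q₀ => ⟨(g.1 • x, g.1 • y), inv g g.2 x y⟩) fun a b e => ?_
    have e1 := Subtype.mk.inj e
    refine Subtype.ext (eq_of_inv_mul_eq_one (inj _ ?_ ?_)).symm
    · rw [mul_smul, inv_smul_eq_iff]; exact congrArg Prod.fst e1
    · rw [mul_smul, inv_smul_eq_iff]; exact congrArg Prod.snd e1
  have h2 := H82.ncard_le_mul (s := {p : W × W | β p.1 p.2 = β x y}) (t := {0}ᶜ) Prod.fst (n := 3)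
    (fun p hp h => hy (by rw [← show β p.1 p.2 = β x y from hp, show p.1 = 0 from h]; simp))
    fun u hu => by
      rcases Set.eq_empty_or_nonempty {a ∈ {p : W × W | β p.1 p.2 = β x y} | a.1 = u} with h | h
      · rw [h]; simp
      obtain ⟨p, hp, rfl⟩ := h
      refine le_trans ?_ (dv (β p.1).ker fun e => hu (nd _ fun z => e.ge (AddSubgroup.mem_top z)))
      rw [← Nat.card_coe_set_eq]
      refine Nat.card_le_card_of_injective (fun a => ⟨a.1.2 - p.2, ?_⟩) fun a b e => ?_
      · rw [AddMonoidHom.mem_ker, map_sub, show β p.1 p.2 = β x y from hp, sub_eq_zero]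
        exact (congrArg (fun u => β u a.1.2) a.2.2).symm.trans a.2.1
      · exact Subtype.ext (Prod.ext (a.2.2.trans b.2.2.symm) (sub_left_injective (Subtype.mk.inj e)))
  have h3 := Set.ncard_add_ncard_compl ({0} : Set W)
  rw [Set.ncard_singleton, h9] at h3
  omega

end H90.KC
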