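import Mathlib
import Cfsg.Agent.Base
import Cfsg.Agent.Lib.KCl.S4
import Cfsg.Agent.Lib.KCl.ACT
import Cfsg.Agent.Lib.KCl.SQ
import Cfsg.Agent.Lib.KCl.GEN
import Cfsg.Agent.Lib.KCl.E4
import Cfsg.Agent.Lib.KCl.DIM
import Cfsg.Agent.Lib.KCl.AR

set_option autoImplicit false
set_option linter.unusedSectionVars false

universe u

namespace H90.KC

open Subgroup MulAction H83.Base
open scoped commutatorElement

theorem field_case {G V K : Type u} {K₀ : Type*} [Group G] [Finite G] [AddCommGroup V] [Finite V]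
    [Nontrivial V] [DistribMulAction G V] [FaithfulSMul G V] [Field K₀] [Finite K₀] [Module K₀ V]
    [SMulCommClass G K₀ V] [Field K] [Finite K] [Module K V] [Algebra K₀ K] [IsScalarTower K₀ K V]
    (hs : Group.IsSolvable G)
    (semi : ∀ (g : G) (k : K), ∃ k' : K, ∀ v : V, g • k • v = k' • g • v)
    (hab : ∀ D : Subgroup G, D.Normal → (∀ d ∈ D, Lin K V d) →
      (∀ a ∈ D, ∀ b ∈ D, a * b = b * a) → ∀ d ∈ D, Scal K V d)
    (hQ : 11 ≤ Nat.card K₀) {n : ℕ} (hn : Nat.card V = Nat.card K₀ ^ n) :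
    Good (Nat.card K₀) n G := by
  obtain ⟨-, -, -, h, -⟩ := exists_ctx hs semi hab
  obtain ⟨B, hBn, hΛ, hS, hc, hcen⟩ := h.exists_B hs
  obtain ⟨Q, W, _, _, _, _, _, _, Q₀, β, hQs, hcr, hW, hQ₀, alt, nd, inv⟩ :=
    act h hs hΛ hS hc hcen
  obtain ⟨e, he⟩ := sq_card β alt nd
  set Λ := LinS G K V with hΛd
  set S := ScalS G K V with hSd
  have hK : Nat.card K = Nat.card K₀ ^ Module.finrank K₀ K := Module.natCard_eq_pow_finrank
  have hV : Nat.card V = Nat.card K ^ Module.finrank K V := Module.natCard_eq_pow_finrank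
  set a := Module.finrank K₀ K
  set d := Module.finrank K V
  have hnad : n = a * d := by
    apply Nat.pow_right_injective (a := Nat.card K₀) (by omega)
    simp only
    rw [← hn, hV, hK, pow_mul]
  have ha : 1 ≤ a := Module.finrank_pos
  have he1 : 1 ≤ e := by
    rcases Nat.eq_zero_or_pos e with rfl | h
    · exact absurd he Nat.card_pos.ne'
    · exact h
  have hed : e ≤ d := by
    have := relIndex_le_sq hΛ hc fun g hg => hcen g (hΛ hg)
    rw [← hW, he] at this
    exact (Nat.pow_le_pow_iff_left two_ne_zero).1 this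
  have hN : (S.subgroupOf Λ).index = e ^ 2 * Nat.card Q₀ := by
    rw [← he, hW, hQ₀]; exact (relIndex_mul_relIndex S B Λ hS hΛ).symm
  have hZ : S.subgroupOf Λ ≤ center Λ := fun s hs =>
    mem_center_iff.2 fun g => Subtype.ext (h.cen _ hs _ g.2)
  have hidx : Λ.index ≤ a := index_lin_le (G := G) (V := V) (K := K) K₀ semi
  have hle : Nat.card Q₀ ≤ Nat.card Q := card_le_card_group Q₀
  obtain ⟨r1, r2, r3⟩ := arith (Q := Nat.card K₀) (a := a) (d := d) (c := commProb G)
    (c' := commProb Λ) hQ ha he1 hed Nat.card_pos hN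
    (Λ.commProb_subgroup_le.trans (mul_le_mul_of_nonneg_left
      (pow_le_pow_left₀ (by positivity) (by exact_mod_cast hidx) 2) (commProb_pos G).le))
    (cz_three _ hZ) (by
      by_cases h2 : ∃ x : Λ, x ^ 2 ∉ S.subgroupOf Λ
      · exact Or.inr (cz_quarter _ hZ h2)
      left
      push Not at h2
      rw [hQ₀, relIndex_eq_one]
      refine fun g hg => mem_B h hΛ hS hc hcen hg fun b hb => ?_
      have s1 : g ^ 2 ∈ S := h2 ⟨g, hg⟩
      have s2 : (g⁻¹ * b) ^ 2 ∈ S := h2 ⟨g⁻¹ * b, mul_mem (inv_mem hg) (hΛ hb)⟩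
      have s3 : b ^ 2 ∈ S := h2 ⟨b, hΛ hb⟩
      have : ⁅g, b⁆ = g ^ 2 * (g⁻¹ * b) ^ 2 * (b ^ 2)⁻¹ := by
        simp only [commutatorElement_def, sq]; group
      rw [this]
      exact mul_mem (mul_mem s1 s2) (inv_mem s3))
    (by
      have := card_le_cube hQs hcr
      rw [he, ← pow_mul] at this
      exact hle.trans this)
    (fun h => hle.trans (card_le_sq h he))
    (by rintro rfl; exact (card_subgroup_dvd_card Q₀).trans (card_dvd_six he))
    (by
      rintro rfl
      exact ⟨card_le_24 Q₀ β alt nd inv he,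
        hK ▸ dvd_card_sub_one β nd Nat.prime_three (by rw [he]; norm_num)⟩)
    (by rintro rfl; exact hle.trans (card_le_144 hQs hcr he))
  subst hnad
  refine ⟨r1, fun h2 => (r2 h2).imp id ?_, r3⟩
  rintro ⟨ha1, rfl, hf⟩
  have htop : Λ = ⊤ := index_eq_one.1 (by
    have := index_ne_zero_of_finite (H := Λ)
    omega)
  have h24 : S.index = 24 := by
    rw [hf] at hN
    rw [← relIndex_top_right, ← htop]; exact hN
  refine ⟨cz_s4 S B (fun s hs => mem_center_iff.2 fun g => h.cen _ hs g (htop ▸ mem_top g)) hS h24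
    (by rw [← hW, he]; norm_num) fun g hg => mem_B h hΛ hS hc hcen (htop ▸ mem_top g) hg,
    Nat.card S, ?_, by rw [← h24, index_mul_card]⟩
  have := card_scal_dvd (G := G) (V := V) (K := K)
  rwa [hK, ha1, pow_one] at this

end H90.KC
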