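import Mathlib
import Cfsg.Agent.Base
import Cfsg.Agent.Lib.KCl.CP
import Cfsg.Agent.Lib.KCl.DX

set_option autoImplicit false
set_option linter.unusedSectionVars false

universe u

namespace H90.KC

open Subgroup MulAction H83.Base
open scoped commutatorElement

theorem IM.pw (j : ℕ) : 167 * 9 ^ (j + 4) ≤ 1000 * 11 ^ (j + 3) := by
  induction j with
  | zero => norm_num
  | succ j ih =>
    rw [show j + 1 + 4 = j + 4 + 1 by omega, show j + 1 + 3 = j + 3 + 1 by omega, pow_succ 9,
      pow_succ 11]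
    omega

theorem imprim {G I : Type*} [Group G] [Finite G] [Fintype I] [MulAction G I]
    (hs : Group.IsSolvable G) {H : I → Type*} [∀ a, Group (H a)] [∀ a, Finite (H a)]
    (ψ : ∀ a, (toPermHom G I).ker →* H a) (hψ : ∀ g, (∀ a, ψ a g = 1) → g = 1)
    (h2 : 2 ≤ Fintype.card I) {Q n : ℕ} (hQ : 11 ≤ Q) (m : I → ℕ) (hm : ∀ a, 1 ≤ m a)
    (hsum : ∑ a, m a = n) (hg : ∀ a, Good Q (m a) (H a)) : Good Q n G := by
  classical
  let N := (toPermHom G I).ker
  have hQ' : (11 : ℚ) ≤ Q := by exact_mod_cast hQ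
  have hc0 := commProb_pos G
  have h1 : ∏ a, commProb (H a) ≤ commProb G * (N.index : ℚ) ^ 2 :=
    (cp_pi_le ψ hψ).trans N.commProb_subgroup_le
  have h3 : ∏ a, ((Q : ℚ) ^ m a * commProb (H a)) ≤
      (Q : ℚ) ^ n * commProb G * (N.index : ℚ) ^ 2 := by
    rw [Finset.prod_mul_distrib, Finset.prod_pow_eq_pow_sum, hsum, mul_assoc]
    exact mul_le_mul_of_nonneg_left h1 (by positivity)
  have h4 : (Q : ℚ) ^ Fintype.card I ≤ (Q : ℚ) ^ n * commProb G * (N.index : ℚ) ^ 2 := by
    refine le_trans ?_ h3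
    rw [← Finset.card_univ, ← Finset.prod_const]
    exact Finset.prod_le_prod (fun _ _ => by positivity) fun a _ => (hg a).le hQ (hm a)
  have h5 : Fintype.card I ≤ n := by
    rw [← hsum, ← Finset.card_univ, Finset.card_eq_sum_ones]
    exact Finset.sum_le_sum fun a _ => hm a
  have hf : N.index ≤ (Fintype.card I).factorial := by
    rw [← Nat.card_eq_fintype_card]; exact index_le_factorial G I
  have hd : N.index ≤ 3 ^ (Fintype.card I - 1) := by
    rw [← Nat.card_eq_fintype_card]; exact dixon G I hs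
  have key : ∀ {X : ℚ} {M : ℕ}, X ≤ (Q : ℚ) ^ n * commProb G * (N.index : ℚ) ^ 2 → N.index ≤ M →
      X ≤ (Q : ℚ) ^ n * commProb G * (M : ℚ) ^ 2 := fun h1 h2 =>
    h1.trans (mul_le_mul_of_nonneg_left (pow_le_pow_left₀ (by positivity) (by exact_mod_cast h2) 2)
      (by positivity))
  have hQ2 : (0 : ℚ) < (Q : ℚ) ^ 2 := by positivity
  refine ⟨fun h => by omega, fun h => Or.inl ?_, fun h => ?_⟩
  · have e : Fintype.card I = 2 := by omega
    rw [e] at hf
    have := key h4 hf
    rw [e, h, mul_assoc] at this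
    have h6 := le_of_mul_le_mul_left ((mul_one _).le.trans this) hQ2
    norm_num at h6
    linarith
  rcases Nat.lt_or_ge (Fintype.card I) 5 with h6 | h6
  · have h7 : Fintype.card I = 2 ∨ Fintype.card I = 3 ∨ Fintype.card I = 4 := by omega
    rcases h7 with e | e | e <;> rw [e] at hf h4
    · obtain ⟨a, ha⟩ : ∃ a, 2 ≤ m a := by
        by_contra! hlt
        have : ∑ a, m a ≤ ∑ _a : I, 1 := Finset.sum_le_sum fun a _ => Nat.lt_succ_iff.1 (hlt a)
        rw [← Finset.card_eq_sum_ones, Finset.card_univ] at this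
        omega
      have h8 : (Q : ℚ) ^ 2 / 6 * Q ≤ ∏ a, ((Q : ℚ) ^ m a * commProb (H a)) := by
        rw [← Finset.mul_prod_erase _ _ (Finset.mem_univ a)]
        refine mul_le_mul ((hg a).sq_le ha) ?_ (by positivity)
          (mul_nonneg (by positivity) (commProb_pos _).le)
        have h9 : (Finset.univ.erase a).card = 1 := by
          rw [Finset.card_erase_of_mem (Finset.mem_univ a), Finset.card_univ, e]
        obtain ⟨b, hb⟩ := Finset.card_eq_one.1 h9
        rw [hb, Finset.prod_singleton]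
        exact (hg b).le hQ (hm b)
      have := key (h8.trans h3) hf
      norm_num at this
      nlinarith
    · have := key h4 hf
      norm_num [Nat.factorial] at this
      nlinarith
    · have := key h4 hf
      norm_num [Nat.factorial] at this
      nlinarith [mul_le_mul hQ' hQ' (by norm_num) (by positivity)]
  · obtain ⟨j, hj⟩ : ∃ j, Fintype.card I = j + 5 := ⟨_, (Nat.sub_add_cancel h6).symm⟩
    rw [hj] at hd h4
    have h7 := key h4 hd
    have h8 : (167 : ℚ) * 9 ^ (j + 4) ≤ 1000 * 11 ^ (j + 3) := by exact_mod_cast IM.pw j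
    have h9 : (11 : ℚ) ^ (j + 3) ≤ (Q : ℚ) ^ (j + 3) := pow_le_pow_left₀ (by norm_num) hQ' _
    have h10 : (((3 ^ (j + 5 - 1) : ℕ) : ℚ)) ^ 2 = 9 ^ (j + 4) := by
      push_cast
      rw [← pow_mul, mul_comm, pow_mul]
      norm_num
    rw [h10, show j + 5 = 2 + (j + 3) by omega, pow_add] at h7
    refine le_of_mul_le_mul_right (a := (9 : ℚ) ^ (j + 4)) ?_ (by positivity)
    nlinarith

end H90.KC
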