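import Mathlib
import Cfsg.Agent.Base
import Cfsg.Agent.Lib.KCl.CP

set_option autoImplicit false
set_option linter.unusedSectionVars false

universe u

namespace H90.KC

open Subgroup MulAction H83.Base
open scoped commutatorElement

namespace LAN

theorem cases_inv {n : ℕ} (h : 0 < n) : 0 < (n : ℚ)⁻¹ ∧ ((n : ℚ)⁻¹ = 1 ∨ (n : ℚ)⁻¹ = 1 / 2 ∨ (n : ℚ)⁻¹ = 1 / 3 ∨
    (n : ℚ)⁻¹ = 1 / 4 ∨ (n : ℚ)⁻¹ = 1 / 5 ∨ (n : ℚ)⁻¹ = 1 / 6 ∨ (n : ℚ)⁻¹ ≤ 1 / 7) := by
  refine ⟨by positivity, ?_⟩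
  rcases lt_or_ge n 7 with k | k
  · interval_cases n <;> norm_num
  · have : (7 : ℚ) ≤ n := by exact_mod_cast k
    have := inv_anti₀ (by norm_num) this
    simp only [← one_div (7 : ℚ)] at this
    tauto

theorem e3 {a b c : ℕ} (ha : 0 < a) (hb : 0 < b) (hc : 0 < c) (h : (a : ℚ)⁻¹ + ((b : ℚ)⁻¹ + (c : ℚ)⁻¹) < 1) :
    (a : ℚ)⁻¹ + ((b : ℚ)⁻¹ + (c : ℚ)⁻¹) ≤ 41 / 42 := by
  obtain ⟨a0, ha⟩ := cases_inv ha
  obtain ⟨b0, hb⟩ := cases_inv hb
  obtain ⟨c0, hc⟩ := cases_inv hc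
  generalize (a : ℚ)⁻¹ = x at *
  generalize (b : ℚ)⁻¹ = y at *
  generalize (c : ℚ)⁻¹ = z at *
  rcases ha with ha | ha | ha | ha | ha | ha | ha <;> rcases hb with hb | hb | hb | hb | hb | hb | hb <;>
    rcases hc with hc | hc | hc | hc | hc | hc | hc <;> linarith

theorem e2 {a b : ℕ} (ha : 0 < a) (hb : 0 < b) (h : (a : ℚ)⁻¹ + (b : ℚ)⁻¹ < 1) :
    (a : ℚ)⁻¹ + (b : ℚ)⁻¹ ≤ 5 / 6 := by
  obtain ⟨a0, ha⟩ := cases_inv ha
  obtain ⟨b0, hb⟩ := cases_inv hb
  generalize (a : ℚ)⁻¹ = x at *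
  generalize (b : ℚ)⁻¹ = y at *
  rcases ha with ha | ha | ha | ha | ha | ha | ha <;> rcases hb with hb | hb | hb | hb | hb | hb | hb <;> linarith

theorem e1 {a : ℕ} (ha : 0 < a) (h : (a : ℚ)⁻¹ < 1) : (a : ℚ)⁻¹ ≤ 1 / 2 := by
  obtain ⟨a0, ha⟩ := cases_inv ha
  generalize (a : ℚ)⁻¹ = x at *
  rcases ha with ha | ha | ha | ha | ha | ha | ha <;> linarith

theorem le_of_inv {h m : ℕ} (h0 : 0 < h) (hm : 0 < m) (k : 1 / (m : ℚ) ≤ (h : ℚ)⁻¹) : h ≤ m := by
  rw [one_div, inv_le_inv₀ (by exact_mod_cast hm) (by exact_mod_cast h0)] at k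
  exact_mod_cast k

theorem egypt {h : ℕ} (h0 : 0 < h) (t : Multiset ℕ) (hp : ∀ n ∈ t, 0 < n)
    (hs : (h : ℚ)⁻¹ + (t.map fun n : ℕ => (n : ℚ)⁻¹).sum = 1) :
    (t.card ≤ 0 → h ≤ 1) ∧ (t.card ≤ 1 → h ≤ 2) ∧ (t.card ≤ 2 → h ≤ 6) ∧ (t.card ≤ 3 → h ≤ 42) := by
  have p : 0 < (h : ℚ)⁻¹ := by positivity
  have c0 : t.card = 0 → h ≤ 1 := fun e => by
    rw [Multiset.card_eq_zero.1 e] at hs
    refine le_of_inv h0 one_pos ?_
    simp only [Multiset.map_zero, Multiset.sum_zero] at hs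
    push_cast; linarith
  have c1 : t.card = 1 → h ≤ 2 := fun e => by
    obtain ⟨a, rfl⟩ := Multiset.card_eq_one.1 e
    simp only [Multiset.map_singleton, Multiset.sum_singleton] at hs
    have := e1 (hp a (by simp)) (by linarith)
    refine le_of_inv h0 two_pos ?_
    push_cast; linarith
  have c2 : t.card = 2 → h ≤ 6 := fun e => by
    obtain ⟨a, b, rfl⟩ := Multiset.card_eq_two.1 e
    simp only [Multiset.insert_eq_cons, Multiset.map_cons, Multiset.sum_cons, Multiset.map_singleton,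
      Multiset.sum_singleton] at hs
    have := e2 (hp a (by simp)) (hp b (by simp)) (by linarith)
    refine le_of_inv h0 (by norm_num) ?_
    push_cast; linarith
  have c3 : t.card = 3 → h ≤ 42 := fun e => by
    obtain ⟨a, b, c, rfl⟩ := Multiset.card_eq_three.1 e
    simp only [Multiset.insert_eq_cons, Multiset.map_cons, Multiset.sum_cons, Multiset.map_singleton,
      Multiset.sum_singleton] at hs
    have := e3 (hp a (by simp)) (hp b (by simp)) (hp c (by simp)) (by linarith)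
    refine le_of_inv h0 (by norm_num) ?_
    push_cast; linarith
  omega

theorem of_sq {p s : ℕ} (h : (2401 / 3600 : ℚ) * p ^ 2 ≤ (s : ℚ) ^ 2) : 49 * p ≤ 60 * s := by
  have : ((49 * p : ℕ) : ℚ) ^ 2 ≤ ((60 * s : ℕ) : ℚ) ^ 2 := by push_cast; linarith
  exact_mod_cast (pow_le_pow_iff_left₀ (by positivity) (by positivity) two_ne_zero).1 this

theorem s4 {z t o k : ℕ} (h10 : 10 ≤ z * t) (hk : 4 * z ≤ k) (ho : t * (z * t + 2) ≤ 24 * o) :
    49 * (z * t + 1) ≤ 60 * (k + o) := by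
  rcases lt_or_ge t 10 with h | h
  · interval_cases t <;> omega
  · obtain ⟨u, rfl⟩ := Nat.exists_eq_add_of_le h
    nlinarith [Nat.zero_le (z * u), Nat.zero_le (z * u * u)]

end LAN

open LAN

theorem card_le_of_k (H : Type*) [Group H] [Finite H] :
    (Nat.card (ConjClasses H) ≤ 1 → Nat.card H ≤ 1) ∧
    (Nat.card (ConjClasses H) ≤ 2 → Nat.card H ≤ 2) ∧
    (Nat.card (ConjClasses H) ≤ 3 → Nat.card H ≤ 6) ∧
    (Nat.card (ConjClasses H) ≤ 4 → Nat.card H ≤ 42) := by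
  classical
  have := Fintype.ofFinite H
  have := Fintype.ofFinite (ConjClasses H)
  let c : ConjClasses H → ℕ := fun C => Nat.card (Subgroup.centralizer ({C.out} : Set H))
  have hc : ∀ C : ConjClasses H, C.carrier.ncard * c C = Nat.card H := by
    intro C
    have := H31.card_carrier_mul C.out
    rwa [show ConjClasses.mk C.out = C from Quotient.out_eq C] at this
  have c1 : c 1 = Nat.card H := by
    have h1 : (1 : ConjClasses H).out = 1 := by
      have : ConjClasses.mk (1 : ConjClasses H).out = ConjClasses.mk 1 := Quotient.out_eq _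
      simpa using ConjClasses.mk_eq_mk_iff_isConj.1 this
    simp only [c, h1]
    rw [Subgroup.centralizer_eq_top_iff_subset.2 (by simp), Subgroup.card_top]
  have hs : ∑ C, ((c C : ℕ) : ℚ)⁻¹ = 1 := by
    have h1 := Group.sum_card_conj_classes_eq_card H
    rw [finsum_eq_sum_of_fintype] at h1
    have h2 : (Nat.card H : ℚ) ≠ 0 := by exact_mod_cast Nat.card_pos.ne'
    apply mul_left_cancel₀ h2
    rw [mul_one, Finset.mul_sum]
    conv_rhs => rw [← h1]
    push_cast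
    refine Finset.sum_congr rfl fun C _ => ?_
    have h3 : ((c C : ℕ) : ℚ) ≠ 0 := by exact_mod_cast Nat.card_pos.ne'
    rw [← hc C]; push_cast; field_simp
  have key := egypt (h := Nat.card H) Nat.card_pos ((Finset.univ.erase 1).val.map c) (fun n hn => by
    obtain ⟨C, -, rfl⟩ := Multiset.mem_map.1 hn
    exact Nat.card_pos) (by
    rw [Multiset.map_map, ← c1, ← hs, ← Finset.add_sum_erase _ _ (Finset.mem_univ 1)]
    rfl)
  rw [Multiset.card_map, Finset.card_val, Finset.card_erase_of_mem (Finset.mem_univ _), Finset.card_univ,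
    ← Nat.card_eq_fintype_card] at key
  omega

theorem fin_num {H : Type*} [Group H] [Finite H] {p n o : ℕ} (hp : p.Prime) (hn : 2 ≤ n)
    (ho : p ^ n ≤ o * Nat.card H + 1) (hg : 11 ≤ p → Good p n H) :
    49 * p ≤ 60 * (Nat.card (ConjClasses H) + o) := by
  have k1 : 1 ≤ Nat.card (ConjClasses H) := Nat.card_pos
  have h2 : p ^ 2 ≤ o * Nat.card H + 1 := (Nat.pow_le_pow_right hp.pos hn).trans ho
  rcases lt_or_ge p 11 with h11 | h11
  · obtain ⟨c1, c2, c3, c4⟩ := card_le_of_k H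
    have o1 : 1 ≤ o := Nat.pos_of_ne_zero fun e => by
      have := hp.two_le
      rw [e] at h2
      nlinarith
    have b : ∀ m, Nat.card H ≤ m → p ^ 2 ≤ o * m + 1 := fun m hm =>
      h2.trans (Nat.add_le_add_right (Nat.mul_le_mul_left _ hm) _)
    have b1 := fun k => b _ (c1 k)
    have b2 := fun k => b _ (c2 k)
    have b3 := fun k => b _ (c3 k)
    have b4 := fun k => b _ (c4 k)
    clear b c1 c2 c3 c4 hg ho h2
    interval_cases p <;> first | omega | exact absurd hp (by norm_num)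
  have hk := k_eq H
  have c0 : 0 ≤ commProb H := (commProb_pos H).le
  have p11 : (11 : ℚ) ≤ p := by exact_mod_cast h11
  have ho' : (p : ℚ) ^ n ≤ o * Nat.card H + 1 := by exact_mod_cast ho
  have ko : commProb H * ((p : ℚ) ^ n - 1) ≤ Nat.card (ConjClasses H) * o := by
    rw [hk, mul_assoc]
    exact mul_le_mul_of_nonneg_left (by linarith) c0
  have sq : ∀ r : ℚ, r ≤ Nat.card (ConjClasses H) * o → 4 * r ≤ ((Nat.card (ConjClasses H) + o : ℕ) : ℚ) ^ 2 :=
    fun r hr => by push_cast; nlinarith [sq_nonneg ((Nat.card (ConjClasses H) : ℚ) - o)]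
  obtain ⟨-, g2, g3⟩ := hg h11
  rcases hn.eq_or_lt with rfl | h3
  · rcases g2 rfl with g | ⟨g, z, ⟨t, ht⟩, hz⟩
    · refine of_sq (le_trans ?_ (sq _ ko))
      have : (121 : ℚ) ≤ (p : ℚ) ^ 2 := by nlinarith
      nlinarith
    · have z0 : 0 < z := Nat.pos_of_ne_zero fun e => by rw [e] at ht; omega
      obtain rfl : p = z * t + 1 := by omega
      refine s4 (by omega) ?_ (Nat.le_of_mul_le_mul_left ?_ z0)
      · have : ((4 * z : ℕ) : ℚ) ≤ Nat.card (ConjClasses H) := by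
          rw [hk, hz]
          push_cast
          nlinarith [(Nat.cast_nonneg z : (0 : ℚ) ≤ z)]
        exact_mod_cast this
      · rw [hz] at h2
        nlinarith
  · refine of_sq (le_trans ?_ (sq _ ko))
    have g := g3 h3
    have : (1331 : ℚ) ≤ (p : ℚ) ^ n := le_trans (by nlinarith [pow_le_pow_left₀ (by norm_num) p11 3])
      (pow_le_pow_right₀ (by linarith) h3)
    have h4 : 1331 * commProb H ≤ (p : ℚ) ^ n * commProb H := mul_le_mul_of_nonneg_right this c0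
    nlinarith [sq_nonneg (p : ℚ)]

end H90.KC
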