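import Mathlib
import Cfsg.Agent.Base
import Cfsg.Agent.Lib.KCl.CP

set_option autoImplicit false
set_option linter.unusedSectionVars false

universe u

namespace H90.KC

open Subgroup MulAction H83.Base
open scoped commutatorElement

namespace LG

theorem one_le_log {p : ℕ} (hp : 2 ≤ p) : 1 ≤ Real.logb 2 p := by
  have h : (2 : ℝ) ≤ p := by exact_mod_cast hp
  rw [Real.le_logb_iff_rpow_le (by norm_num) (by linarith)]
  simpa using h

theorem le_log_iff {p m : ℕ} (hp : 2 ≤ p) : (m : ℝ) ≤ 3 * Real.logb 2 p ↔ 2 ^ m ≤ p ^ 3 := by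
  have h : (0 : ℝ) < p := by exact_mod_cast (by omega : 0 < p)
  have e : 3 * Real.logb 2 p = Real.logb 2 ((p : ℝ) ^ 3) := by
    rw [Real.logb_pow]
    norm_num
  rw [e, Real.le_logb_iff_rpow_le (by norm_num) (by positivity), Real.rpow_natCast]
  exact_mod_cast Iff.rfl

theorem of_three {p k : ℕ} (hp : 2 ≤ p) (h : p ≤ 3 * k) : (p : ℝ) / (3 * Real.logb 2 p) ≤ k := by
  have h1 := one_le_log hp
  have h2 : (p : ℝ) ≤ 3 * k := by exact_mod_cast h
  have h3 : (0 : ℝ) ≤ k := Nat.cast_nonneg k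
  rw [div_le_iff₀ (by linarith)]
  nlinarith

theorem six (t : ℕ) : t ^ 6 ≤ 5832 * 2 ^ t := by
  rcases le_or_gt t 9 with h | h
  · interval_cases t <;> norm_num
  · induction t, h using Nat.le_induction with
    | base => norm_num
    | succ t ht ih =>
      have h1 : (9 * (t + 1)) ^ 6 ≤ (10 * t) ^ 6 := Nat.pow_le_pow_left (by omega) 6
      rw [mul_pow, mul_pow] at h1
      rw [pow_succ 2 t]
      omega

theorem fin {p t k o : ℕ} (ht : 0 < t) (h1 : p ^ 3 ≤ 2 ^ t) (h2 : 2 ^ t ≤ 2 * (k * o) * t ^ 2) :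
    p ≤ 3 * (k + o) := by
  have h3 : t ^ 2 * p ^ 2 ≤ 18 * 2 ^ t := by
    refine (Nat.pow_le_pow_iff_left (n := 3) (by norm_num)).1 ?_
    calc (t ^ 2 * p ^ 2) ^ 3 = t ^ 6 * (p ^ 3) ^ 2 := by ring
      _ ≤ 5832 * 2 ^ t * (2 ^ t) ^ 2 := Nat.mul_le_mul (six t) (Nat.pow_le_pow_left h1 2)
      _ = (18 * 2 ^ t) ^ 3 := by ring
  have h4 : 4 * (k * o) ≤ (k + o) ^ 2 := by
    zify
    nlinarith [sq_nonneg ((k : ℤ) - o)]
  have h5 : t ^ 2 * p ^ 2 ≤ t ^ 2 * (3 * (k + o)) ^ 2 :=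
    calc t ^ 2 * p ^ 2 ≤ 18 * (2 * (k * o) * t ^ 2) := h3.trans (Nat.mul_le_mul_left _ h2)
      _ = t ^ 2 * (9 * (4 * (k * o))) := by ring
      _ ≤ t ^ 2 * (9 * (k + o) ^ 2) := Nat.mul_le_mul_left _ (Nat.mul_le_mul_left _ h4)
      _ = t ^ 2 * (3 * (k + o)) ^ 2 := by ring
  exact (Nat.pow_le_pow_iff_left (n := 2) (by norm_num)).1 (Nat.le_of_mul_le_mul_left h5 (by positivity))

end LG

theorem fin_log {H : Type*} [Group H] [Finite H] {p w o : ℕ} (hp : 2 ≤ p) (hw : 2 ≤ w)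
    (ho : w ≤ o * Nat.card H + 1) {x : H} (hx : orderOf x = p)
    (h : (2 : ℚ) ^ (centralizer ({x} : Set H)).index ≤ w * commProb (centralizer ({x} : Set H))) :
    (p : ℝ) / (3 * Real.logb 2 p) ≤ (Nat.card (ConjClasses H) + o : ℕ) := by
  have hm : x ∈ centralizer ({x} : Set H) := mem_centralizer_singleton_iff.2 rfl
  have h1 : p ≤ Nat.card (center (centralizer ({x} : Set H))) := by
    have h0 : zpowers (⟨x, hm⟩ : centralizer ({x} : Set H)) ≤ center _ :=
      zpowers_le.2 (mem_center_iff.2 fun g => Subtype.ext (mem_centralizer_singleton_iff.1 g.2))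
    have := card_le_of_le h0
    rwa [Nat.card_zpowers, ← orderOf_coe, hx] at this
  have h2 := h1.trans ((card_center_le_k _).trans (H81.card_conjClasses_subgroup_le _))
  have h3 := Subgroup.commProb_subgroup_le (centralizer ({x} : Set H))
  have h4 := k_eq H
  have ht : 0 < (centralizer ({x} : Set H)).index := Nat.pos_of_ne_zero index_ne_zero_of_finite
  generalize (centralizer ({x} : Set H)).index = t at h h2 h3 ht
  generalize Nat.card (ConjClasses H) = k at h2 h4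
  rcases le_total (2 ^ t) (p ^ 3) with c | c
  · have h5 := (LG.le_log_iff hp).2 c
    have h6 := LG.one_le_log hp
    have h7 : (p : ℝ) ≤ t * k := by exact_mod_cast h2
    have h8 : (0 : ℝ) ≤ k := Nat.cast_nonneg k
    have h9 : (0 : ℝ) ≤ o := Nat.cast_nonneg o
    rw [div_le_iff₀ (by linarith)]
    push_cast
    nlinarith
  · refine LG.of_three hp (LG.fin ht c ?_)
    have h5 : (w : ℚ) ≤ 2 * (o * Nat.card H) := by exact_mod_cast (by omega : w ≤ 2 * (o * Nat.card H))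
    have h6 : 0 ≤ commProb H * (t : ℚ) ^ 2 := mul_nonneg (commProb_pos _).le (by positivity)
    have h7 : (2 : ℚ) ^ t ≤ 2 * (k * o) * (t : ℚ) ^ 2 :=
      calc (2 : ℚ) ^ t ≤ w * (commProb H * (t : ℚ) ^ 2) :=
            h.trans (mul_le_mul_of_nonneg_left h3 (Nat.cast_nonneg w))
        _ ≤ 2 * (o * Nat.card H) * (commProb H * (t : ℚ) ^ 2) := mul_le_mul_of_nonneg_right h5 h6
        _ = 2 * (k * o) * (t : ℚ) ^ 2 := by rw [h4]; ring
    exact_mod_cast h7

theorem small_log {p : ℕ} (hp : p.Prime) (h : p < 11) : (p : ℝ) / (3 * Real.logb 2 p) ≤ 1 := by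
  have h1 := LG.one_le_log hp.two_le
  rw [div_le_one (by linarith), LG.le_log_iff hp.two_le]
  interval_cases p <;> first | (norm_num; done) | norm_num at hp

theorem log_le {p k : ℕ} (hp : 2 ≤ p) (h : 49 * p ≤ 60 * k) :
    (p : ℝ) / (3 * Real.logb 2 p) ≤ k :=
  LG.of_three hp (by omega)

end H90.KC
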