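import Mathlib
import Cfsg.Agent.Base
import Cfsg.Agent.Lib.KCl.DI
import Cfsg.Agent.Lib.KCl.IM
import Cfsg.Agent.Lib.KCl.FLD

set_option autoImplicit false
set_option linter.unusedSectionVars false

universe u

namespace H90.KC

open Subgroup MulAction H83.Base
open scoped commutatorElement

theorem good {K₀ : Type*} [Field K₀] [Finite K₀] (hQ : 11 ≤ Nat.card K₀) {G V : Type u} [Group G]
    [Finite G] [AddCommGroup V] [Finite V] [DistribMulAction G V] [FaithfulSMul G V] [Module K₀ V]
    [SMulCommClass G K₀ V] (hs : Group.IsSolvable G) (hi : Irr G V) {n : ℕ}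
    (hn : Nat.card V = Nat.card K₀ ^ n) : Good (Nat.card K₀) n G := by
  induction n using Nat.strong_induction_on generalizing G V with
  | _ n ih =>
  haveI := hi.1
  rcases dich (K₀ := K₀) hs hi with ⟨K, _, _, _, _, _, semi, hab⟩ |
    ⟨I, _, _, H, U, _, _, _, _, _, _, ψ, h2, hprod, hψ, hU⟩
  · exact field_case (K := K) hs semi hab hQ hn
  · have hc : ∀ a, Nat.card (U a) = Nat.card K₀ ^ Module.finrank K₀ (U a) := fun a =>
      Module.natCard_eq_pow_finrank
    have hm : ∀ a, 1 ≤ Module.finrank K₀ (U a) := fun a => by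
      haveI := (hU a).2.2.2.1
      have h1 : 1 < Nat.card (U a) := Finite.one_lt_card
      rw [hc] at h1
      rcases Nat.eq_zero_or_pos (Module.finrank K₀ (U a)) with h | h
      · rw [h] at h1; simp at h1
      · exact h
    have hsum : ∑ a, Module.finrank K₀ (U a) = n := by
      apply Nat.pow_right_injective (a := Nat.card K₀) (by omega)
      simp only
      rw [← hn, ← hprod, ← Finset.prod_pow_eq_pow_sum]
      exact Finset.prod_congr rfl fun a _ => (hc a).symm
    refine imprim hs ψ hψ h2 hQ _ hm hsum fun a => ?_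
    obtain ⟨h1, h3, h4, h5⟩ := hU a
    refine ih _ ?_ h1 h5 (hc a)
    classical
    obtain ⟨b, hb⟩ := Fintype.exists_ne_of_one_lt_card (by omega : 1 < Fintype.card I) a
    rw [← hsum]
    exact Finset.single_lt_sum (f := fun a => Module.finrank K₀ (U a)) hb (Finset.mem_univ _)
      (Finset.mem_univ _) (hm b) fun _ _ _ => Nat.zero_le _

end H90.KC
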