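import Mathlib
import Cfsg.Agent.Base
import Cfsg.Agent.Lib.KCl.MOD

set_option autoImplicit false
set_option linter.unusedSectionVars false

universe u

namespace H90.KC

open Subgroup MulAction H83.Base
open scoped commutatorElement

open Polynomial in
theorem MA.exists_monic {K : Type*} [Field K] [Finite K] (a : K) :
    ∃ ν : ℤ[X], ν.Monic ∧ aeval a ν = 0 ∧ 2 ^ ν.natDegree ≤ Nat.card K := by
  have hp := Fact.mk (CharP.char_is_prime K (ringChar K))
  let := ZMod.algebra K (ringChar K)
  obtain ⟨ν, h1, h2, h3⟩ := lifts_and_natDegree_eq_and_monic (f := algebraMap ℤ (ZMod (ringChar K)))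
    (map_surjective _ (ZMod.ringHom_surjective _) _) (minpoly.monic (.of_finite (ZMod (ringChar K)) a))
  refine ⟨ν, h3, by rw [← aeval_map_algebraMap (ZMod (ringChar K)), h1, minpoly.aeval], ?_⟩
  rw [h2, Module.natCard_eq_pow_finrank (K := ZMod (ringChar K)), Nat.card_zmod]
  exact (Nat.pow_le_pow_right two_pos (minpoly.natDegree_le a)).trans (Nat.pow_le_pow_left hp.out.two_le _)

theorem MA.exists_field {C Y : Type u} [Group C] [AddCommGroup Y] [Finite Y] [DistribMulAction C Y] (hi : Irr C Y)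
    {x : C} (hx : x ∈ center C) : ∃ (K : Type u) (_ : Field K) (f : K →+* Module.End ℤ Y) (a : K),
      f a = DistribMulAction.toModuleEnd ℤ Y x ∧ ∀ k (c : C) (y : Y), f k (c • y) = c • f k y := by
  have := hi.1
  have : Finite (Module.End ℤ Y) := DFunLike.finite _
  let A := Algebra.adjoin ℤ {DistribMulAction.toModuleEnd ℤ Y x}
  have h1 : ∀ (k : A) (c : C) (y : Y), k.1 (c • y) = c • k.1 y := fun k c y =>
    (LinearMap.congr_fun (Algebra.commute_of_mem_adjoin_singleton_of_commute k.2
      ((show Commute c x from mem_center_iff.1 hx c).map (DistribMulAction.toModuleEnd ℤ Y))).eq y).symm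
  have : NoZeroDivisors A := ⟨fun {a b} h => by
    rcases hi.2 (LinearMap.ker a.1).toAddSubgroup (fun c y (hy : a.1 y = 0) =>
      show a.1 _ = 0 by rw [h1, hy, smul_zero]) with e | e
    · exact .inr (Subtype.ext (LinearMap.ext fun y => AddSubgroup.mem_bot.1
        (e.le (LinearMap.congr_fun (congrArg Subtype.val h) y))))
    · exact .inl (Subtype.ext (LinearMap.ext fun y => e.ge (AddSubgroup.mem_top y)))⟩
  have : IsDomain A := NoZeroDivisors.to_isDomain A
  exact ⟨A, (Finite.isField_of_domain A).toField, A.val.toRingHom, ⟨_, Algebra.self_mem_adjoin_singleton _ _⟩, rfl, h1⟩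

open Polynomial in
theorem irr_piece {C Y : Type u} [Group C] [Finite C] [AddCommGroup Y] [Finite Y]
    [DistribMulAction C Y] [FaithfulSMul C Y] (hs : Group.IsSolvable C) (hi : Irr C Y) {p : ℕ}
    (hp : p.Prime) (h11 : 11 ≤ p) {x : C} (hx : x ∈ center C) (ho : orderOf x = p) :
    (∃ ν : ℤ[X], ν.Monic ∧ aeval (DistribMulAction.toModuleEnd ℤ Y x) ν = 0 ∧
      (2 : ℚ) ^ ν.natDegree ≤ Nat.card Y * commProb C) ∧
    ∀ μ : ℤ[X], μ.Monic → ∀ T : Finset ℕ, (∀ i ∈ T, i < p ∧
      aeval (DistribMulAction.toModuleEnd ℤ Y (x ^ i)) μ = 0) → T.card ≤ μ.natDegree := by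
  classical
  obtain ⟨K, _, f, a, ha, hf⟩ := MA.exists_field hi hx
  have := hi.1
  have : Finite (Module.End ℤ Y) := DFunLike.finite _
  have : Finite K := Finite.of_injective f f.injective
  have ev : ∀ (b : K) (μ : ℤ[X]), aeval (f b) μ = f (aeval b μ) := fun b μ => aeval_algHom_apply f.toIntAlgHom b μ
  have o : orderOf a = p := by
    rw [← orderOf_injective f.toMonoidHom f.injective, ← ho, ← orderOf_injective (DistribMulAction.toModuleEnd ℤ Y)
      (fun c d e => eq_of_smul_eq_smul (α := Y) (LinearMap.congr_fun e)) x]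
    exact congrArg _ ha
  refine ⟨?_, fun μ hμ T hT => ?_⟩
  · let := Module.compHom Y f
    have : SMulCommClass C K Y := ⟨fun c k y => (hf k c y).symm⟩
    have hQ : 11 ≤ Nat.card K := h11.trans (o ▸ orderOf_le_card)
    have hn := Module.natCard_eq_pow_finrank (K := K) (V := Y)
    obtain ⟨ν, h1, h2, h3⟩ := MA.exists_monic a
    refine ⟨ν, h1, by rw [← ha, ev, h2, map_zero], le_trans (b := (Nat.card K : ℚ)) (by exact_mod_cast h3) ?_⟩
    rw [hn, Nat.cast_pow]
    exact (good hQ hs hi hn).le hQ Module.finrank_pos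
  · rw [← Finset.card_image_of_injOn (f := (a ^ ·)) fun i hi j hj =>
      pow_injOn_Iio_orderOf (o ▸ (hT i hi).1) (o ▸ (hT j hj).1), ← hμ.natDegree_map (algebraMap ℤ K)]
    refine card_le_degree_of_subset_roots fun b hb => ?_
    obtain ⟨i, hi, rfl⟩ := Finset.mem_image.1 hb
    refine mem_aroots'.2 ⟨(hμ.map _).ne_zero, f.injective ?_⟩
    rw [← ev, map_pow, ha, ← map_pow, (hT i hi).2, map_zero]

end H90.KC
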