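import Mathlib
import Cfsg.Agent.Base
import Cfsg.Agent.Lib.KCl.MA

set_option autoImplicit false
set_option linter.unusedSectionVars false

universe u

namespace H90.KC

open Subgroup MulAction H83.Base Polynomial
open scoped commutatorElement

namespace MB

theorem semi {A B : Type*} [AddCommGroup A] [AddCommGroup B] (φ : A →+ B) {f : Module.End ℤ A} {g : Module.End ℤ B}
    (h : ∀ a, φ (f a) = g (φ a)) (ν : ℤ[X]) (a : A) : φ (aeval f ν a) = aeval g ν (φ a) := by
  have key : ∀ (n : ℕ) a, φ ((f ^ n) a) = (g ^ n) (φ a) := fun n => by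
    induction n with
    | zero => exact fun _ => rfl
    | succ n ih => intro a; rw [pow_succ, pow_succ, Module.End.mul_apply, Module.End.mul_apply, ih, h]
  induction ν using Polynomial.induction_on' with
  | add p q hp hq => simp [hp, hq]
  | monomial n c => simp [aeval_monomial, key]

variable {C W : Type u} [Group C] [Finite C] [AddCommGroup W] [Finite W] [DistribMulAction C W]

/-- The invariant carried through a direct sum. -/
def PP (x : C) (Y : AddSubgroup W) : Prop := Invt C Y ∧ ∃ ν : ℤ[X], ν.Monic ∧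
  (∀ w ∈ Y, aeval (DistribMulAction.toModuleEnd ℤ W x) ν w = 0) ∧ ∃ (M : Type u) (_ : Group M) (_ : Finite M) (ψ : C →* M),
    (∀ c, ψ c = 1 → ∀ w ∈ Y, c • w = w) ∧ (2 : ℚ) ^ ν.natDegree ≤ Nat.card Y * commProb M

theorem eqns_PP : True := by have := @PP.eq_1.{0}; trivial

theorem PP.sup {x : C} {Y U : AddSubgroup W} (hY : PP x Y) (hU : PP x U) (h : Y ⊓ U = ⊥) : PP x (Y ⊔ U) := by
  obtain ⟨i1, ν, m1, k1, M, _, _, ψ, f1, l1⟩ := hY
  obtain ⟨i2, μ, m2, k2, N, _, _, χ, f2, l2⟩ := hU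
  refine ⟨fun c w hw => ?_, ν * μ, m1.mul m2, fun w hw => ?_, M × N, inferInstance, inferInstance, ψ.prod χ,
    fun c hc w hw => ?_, ?_⟩
  iterate 3 obtain ⟨y, hy, v, hv, rfl⟩ := AddSubgroup.mem_sup.1 hw; rotate_left
  rotate_left
  · rw [smul_add]; exact AddSubgroup.add_mem_sup (i1 c y hy) (i2 c v hv)
  · rw [map_add]
    nth_rw 1 [mul_comm ν]
    rw [map_mul, map_mul, Module.End.mul_apply, Module.End.mul_apply, k1 y hy, k2 v hv, map_zero, map_zero, add_zero]
  · rw [smul_add, f1 c (congrArg Prod.fst hc) y hy, f2 c (congrArg Prod.snd hc) v hv]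
  · have h1 : Nat.card Y * Nat.card U ≤ Nat.card ↥(Y ⊔ U) := by
      rw [← Nat.card_prod]
      exact Nat.card_le_card_of_injective (fun g => ⟨g.1 + g.2, AddSubgroup.add_mem_sup g.1.2 g.2.2⟩) fun a b e =>
        AddSubgroup.add_injective_of_disjoint (disjoint_iff.2 h) (congrArg Subtype.val e)
    rw [m1.natDegree_mul m2, pow_add, commProb_prod]
    calc _ ≤ _ := mul_le_mul l1 l2 (by positivity) (le_trans (by positivity) l1)
      _ = ((Nat.card Y * Nat.card U : ℕ) : ℚ) * (commProb M * commProb N) := by push_cast; ring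
      _ ≤ _ := mul_le_mul_of_nonneg_right (by exact_mod_cast h1) (mul_pos (commProb_pos _) (commProb_pos _)).le

theorem piece (hs : Group.IsSolvable C) {p : ℕ} (hp : p.Prime) (h11 : 11 ≤ p) {x : C} (hx : x ∈ center C) (ho : x ^ p = 1)
    (hf : ∀ w : W, x • w = w → w = 0) {U : AddSubgroup W} (hU : Minimal (fun U => U ≠ ⊥ ∧ Invt C U) U) :
    PP x U ∧ ∀ μ : ℤ[X], μ.Monic → ∀ T : Finset ℕ, (∀ i ∈ T, i < p ∧
      ∀ w, aeval (DistribMulAction.toModuleEnd ℤ W (x ^ i)) μ w = 0) → T.card ≤ μ.natDegree := by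
  have := Fact.mk hp
  let := subAct C U hU.1.2
  obtain ⟨M, _, _, _, ψ, h1, h2, _⟩ := exists_faithful C U
  have hn := (AddSubgroup.nontrivial_iff_ne_bot U).2 hU.1.1
  have ev : ∀ (c : C) (μ : ℤ[X]) (w : U), (aeval (DistribMulAction.toModuleEnd ℤ U (ψ c)) μ w : W) =
      aeval (DistribMulAction.toModuleEnd ℤ W c) μ w := fun c μ =>
    semi U.subtype (f := DistribMulAction.toModuleEnd ℤ U (ψ c)) (g := DistribMulAction.toModuleEnd ℤ W c)
      (fun a => congrArg Subtype.val (h2 c a)) μ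
  obtain ⟨⟨ν, m, k, l⟩, h3⟩ := irr_piece (C := M) (Y := U) (Group.isSolvable_of_surjective h1) ⟨hn, fun V hV => by
      refine (eq_or_ne V ⊥).imp_right fun e => eq_top_iff.2 fun w _ => ?_
      obtain ⟨w', h3, h4⟩ := hU.2 (y := V.map U.subtype)
        ⟨fun e' => e ((AddSubgroup.map_eq_bot_iff_of_injective _ U.subtype_injective).1 e'), by
          rintro g _ ⟨w, hw, rfl⟩; exact ⟨g • w, h2 g w ▸ hV _ w hw, rfl⟩⟩ (AddSubgroup.map_subtype_le V) w.2
      rwa [← Subtype.ext h4]⟩ hp h11 (x := ψ x)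
    (mem_center_iff.2 fun g => by obtain ⟨c, rfl⟩ := h1 g; rw [← map_mul, mem_center_iff.1 hx, map_mul])
    (orderOf_eq_prime (by rw [← map_pow, ho, map_one]) fun e => by
      obtain ⟨w, hw⟩ := exists_ne (0 : U)
      exact hw (Subtype.ext (hf w (congrArg Subtype.val ((h2 x w).symm.trans (by rw [e, one_smul]))))))
  refine ⟨⟨hU.1.2, ν, m, fun w hw => by rw [← ev x ν ⟨w, hw⟩, k]; rfl, M, inferInstance, inferInstance, ψ,
    fun c e w hw => congrArg Subtype.val ((h2 c ⟨w, hw⟩).symm.trans (by rw [e, one_smul])), l⟩,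
    fun μ hμ T hT => h3 μ hμ T fun i hi => ⟨(hT i hi).1, LinearMap.ext fun w => Subtype.ext ?_⟩⟩
  rw [← map_pow, ev, (hT i hi).2]; rfl

end MB

open MB

theorem two_pow_le {H W : Type u} [Group H] [Finite H] [AddCommGroup W] [Finite W]
    [DistribMulAction H W] [FaithfulSMul H W] (hs : Group.IsSolvable H) (hi : Irr H W) {p : ℕ}
    (hp : p.Prime) (h11 : 11 ≤ p) {x : H} (ho : orderOf x = p) (hn : (zpowers x).Normal) :
    (2 : ℚ) ^ (centralizer ({x} : Set H)).index ≤
      Nat.card W * commProb (centralizer ({x} : Set H)) := by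
  classical
  set C := centralizer ({x} : Set H)
  have cj : ∀ h : H, ∃ i < p, x ^ i = h * x * h⁻¹ := fun h => by
    obtain ⟨i, hi⟩ := mem_powers_iff_mem_zpowers.2 (hn.conj_mem x (mem_zpowers x) h)
    exact ⟨i % p, Nat.mod_lt _ hp.pos, by rw [← ho, pow_mod_orderOf]; exact hi⟩
  have nC : ∀ h : H, ∀ c ∈ C, h * c * h⁻¹ ∈ C := fun h c hc => by
    obtain ⟨i, -, hi⟩ := cj h⁻¹
    have := (Commute.pow_right (mem_centralizer_singleton_iff.1 hc) i).eq
    rw [hi] at this
    rw [mem_centralizer_singleton_iff, show h * c * h⁻¹ * x = h * (c * (h⁻¹ * x * h⁻¹⁻¹)) * h⁻¹ by group, this]; group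
  let y : C := ⟨x, mem_centralizer_singleton_iff.2 rfl⟩
  have hf : ∀ w : W, y • w = w → w = 0 := fun w hw => by
    rcases hi.2 ((DistribSMul.toAddMonoidHom W x).eqLocus (AddMonoidHom.id W)) (fun h v (hv : x • v = v) => by
      obtain ⟨i, -, hi⟩ := cj h⁻¹
      change x • h • v = h • v
      nth_rw 2 [← (pow_mem (mem_stabilizer_iff.2 hv) i : x ^ i • v = v)]
      simp [hi, mul_smul]) with e | e
    · exact AddSubgroup.mem_bot.1 (e.le hw)
    · exact absurd (eq_of_smul_eq_smul (m₂ := 1) fun v : W => (e.ge (AddSubgroup.mem_top v)).trans (one_smul _ _).symm)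
        fun e => hp.ne_one (by rw [← ho, e, orderOf_one])
  have pc := fun U => piece (W := W) (C := C) inferInstance hp h11 (x := y)
    (mem_center_iff.2 fun c => Subtype.ext (mem_centralizer_singleton_iff.1 c.2))
    (Subtype.ext (ho ▸ pow_orderOf_eq_one x)) hf (U := U)
  have := hi.1
  obtain ⟨U, hU⟩ := exists_minimal_of_wellFoundedLT (fun U : AddSubgroup W => U ≠ ⊥ ∧ Invt C U)
    ⟨⊤, top_ne_bot, fun _ _ _ => trivial⟩
  obtain ⟨Y, hY⟩ := exists_maximal_of_wellFoundedGT (PP y) ⟨U, (pc U hU).1⟩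
  let sm : H → AddSubgroup W → AddSubgroup W := fun h V => V.comap (DistribSMul.toAddMonoidHom W h)
  have s1 : ∀ h V, V ≠ ⊥ ∧ Invt C V → sm h V ≠ ⊥ ∧ Invt C (sm h V) := fun h V hV =>
    ⟨fun e => hV.1 (eq_bot_iff.2 fun v hv => smul_eq_zero_iff_eq h⁻¹ |>.1 (e.le (show h • h⁻¹ • v ∈ V by simpa))),
      fun c v hv => show h • (c : H) • v ∈ V by simpa [mul_smul] using hV.2 ⟨_, nC h c c.2⟩ _ hv⟩
  have s2 : ∀ h, sm h U ≤ Y := fun h => by
    have h1 : Minimal (fun U : AddSubgroup W => U ≠ ⊥ ∧ Invt C U) (sm h U) := ⟨s1 h U hU.1, fun V hV le v hv => by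
      simpa [sm] using hU.2 (s1 h⁻¹ V hV) (fun w hw => by simpa [sm] using le hw) hv⟩
    by_cases e : Y ⊓ sm h U = ⊥
    · exact le_sup_right.trans (hY.2 (hY.1.sup (pc _ h1).1 e) le_sup_left)
    · exact (h1.2 ⟨e, fun c v hv => ⟨hY.1.1 c v hv.1, h1.1.2 c v hv.2⟩⟩ inf_le_right).trans inf_le_left
  obtain rfl : Y = ⊤ := by
    rcases hi.2 (⨅ h, sm h Y) (fun g v hv => AddSubgroup.mem_iInf.2 fun h => by
      simpa [sm, mul_smul] using AddSubgroup.mem_iInf.1 hv (h * g)) with e | e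
    · exact absurd (eq_bot_iff.2 fun v hv => e.le (AddSubgroup.mem_iInf.2 fun h =>
        s2 h⁻¹ (show h⁻¹ • h • v ∈ U by simpa))) hU.1.1
    · exact eq_top_iff.2 fun v _ => by simpa [sm] using AddSubgroup.mem_iInf.1 (e.ge (AddSubgroup.mem_top v)) 1
  obtain ⟨-, ν, m, k, M, _, _, ψ, f, l⟩ := hY.1
  choose i hi1 hi2 using cj
  have := Fintype.ofFinite (H ⧸ C)
  have h1 := (pc U hU).2 ν m (Finset.univ.image fun q : H ⧸ C => i q.out) fun j hj => by
    obtain ⟨q, -, rfl⟩ := Finset.mem_image.1 hj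
    refine ⟨hi1 _, fun w => ?_⟩
    have := semi (DistribSMul.toAddMonoidHom W q.out) (f := DistribMulAction.toModuleEnd ℤ W y)
      (g := DistribMulAction.toModuleEnd ℤ W (y ^ i q.out)) (fun a => by
        change q.out • x • a = x ^ i q.out • q.out • a
        rw [hi2, smul_smul, smul_smul, inv_mul_cancel_right]) ν (q.out⁻¹ • w)
    rw [k _ trivial, map_zero] at this
    simpa using this.symm
  rw [Finset.card_image_of_injective _ fun a b e => by
    rw [← a.out_eq', ← b.out_eq', QuotientGroup.eq, mem_centralizer_singleton_iff,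
      show a.out⁻¹ * b.out * x = a.out⁻¹ * (b.out * x * b.out⁻¹) * b.out by group, ← hi2, ← show i a.out = _ from e, hi2]
    group, Finset.card_univ, ← Nat.card_eq_fintype_card] at h1
  rw [AddSubgroup.card_top] at l
  exact ((pow_le_pow_right₀ one_le_two h1).trans l).trans (mul_le_mul_of_nonneg_left (cp_le_of_inj ψ
    ((injective_iff_map_eq_one ψ).2 fun c e => Subtype.ext (eq_of_smul_eq_smul fun w : W =>
      (f c e w trivial).trans (one_smul _ _).symm))) (by positivity))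

end H90.KC
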