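import Mathlib
import Cfsg.Agent.Base
import Cfsg.Agent.Lib.KCl.Defs
import Cfsg.Agent.Lib.Core.Fitting

set_option autoImplicit false
set_option linter.unusedSectionVars false

universe u

namespace H90.KC

open Subgroup MulAction H83.Base
open scoped commutatorElement

namespace R2

theorem sylow_normal {H : Type*} [Group H] [Finite H] {p : ℕ} [hp : Fact p.Prime] (Q : Sylow p H)
    (h : ¬ p ∣ (Cfsg.fittingSubgroup H).index) : (Q : Subgroup H).Normal := by
  have h1 : (Q : Subgroup H) ≤ Cfsg.fittingSubgroup H := by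
    refine H1.le_of_coprime_index ?_
    obtain ⟨n, hn⟩ := Q.isPGroup'.exists_card_eq
    rw [hn]
    exact Nat.Coprime.pow_left n ((Nat.Prime.coprime_iff_not_dvd hp.out).2 h)
  have h2 := H1.sylow_inf_fitting Q
  rw [inf_eq_left.2 h1] at h2
  rw [h2]
  infer_instance

theorem map_normal {G : Type*} [Group G] [Finite G] {p : ℕ} [hp : Fact p.Prime] (P : Sylow p G)
    (N : Subgroup G) [N.Normal] (h : ¬ p ∣ (Cfsg.fittingSubgroup (G ⧸ N)).index) :
    ((P : Subgroup G).map (QuotientGroup.mk' N)).Normal :=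
  sylow_normal (P.mapSurjective (QuotientGroup.mk'_surjective N)) h

theorem frattini {G : Type*} [Group G] [Finite G] {p : ℕ} [hp : Fact p.Prime] (P : Sylow p G)
    (N : Subgroup G) [N.Normal] (h : ¬ p ∣ (Cfsg.fittingSubgroup (G ⧸ N)).index) :
    normalizer (P : Set G) ⊔ N = ⊤ := by
  have h1 := (map_normal P N h).comap (QuotientGroup.mk' N)
  rw [comap_map_eq, QuotientGroup.ker_mk'] at h1
  have h2 := Sylow.normalizer_sup_eq_top' (N := (P : Subgroup G) ⊔ N) P le_sup_left
  rw [← sup_assoc, sup_eq_left.2 (show (P : Subgroup G) ≤ normalizer (P : Set G) from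
    le_normalizer)] at h2
  exact h2

end R2

theorem red2 {G : Type*} [Group G] [Finite G] (hs : Group.IsSolvable G) {p : ℕ} (hp : p.Prime)
    (h1 : p ∣ (Cfsg.fittingSubgroup G).index) (h2 : ¬ p ^ 2 ∣ Nat.card G)
    (hmin : ∀ (N : Subgroup G) [N.Normal], N ≠ ⊥ → ¬ p ∣ (Cfsg.fittingSubgroup (G ⧸ N)).index) :
    ∃ (V : Subgroup G) (_ : V.Normal), V ≠ ⊥ ∧ centralizer (V : Set G) ≤ V ∧
      (∀ x ∈ V, ∀ y ∈ V, x * y = y * x) ∧
      (∀ K : Subgroup G, K.Normal → K ≤ V → K = ⊥ ∨ K = V) ∧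
      ∃ x : G ⧸ V, orderOf x = p ∧ (zpowers x).Normal := by
  haveI : Fact p.Prime := ⟨hp⟩
  obtain ⟨P⟩ : Nonempty (Sylow p G) := inferInstance
  have hpG : p ∣ Nat.card G := h1.trans (index_dvd_card _)
  have hPF : ¬ (P : Subgroup G) ≤ Cfsg.fittingSubgroup G := fun h =>
    P.not_dvd_index (h1.trans (index_dvd_of_le h))
  have hPn : normalizer (P : Set G) ≠ ⊤ := fun h => by
    haveI : (P : Subgroup G).Normal := normalizer_eq_top_iff.1 h
    exact hPF (H1.le_fitting P.isPGroup'.isNilpotent)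
  obtain ⟨y, hyP, hy⟩ := H1.exists_mem_orderOf_eq_prime hp (P.dvd_card_of_dvd_card hpG)
  have hPy : (P : Subgroup G) = zpowers y := by
    refine (eq_of_le_of_card_ge (zpowers_le.2 hyP) ?_).symm
    obtain ⟨n, hn⟩ := P.isPGroup'.exists_card_eq
    rw [Nat.card_zpowers, hy, hn]
    have : n ≤ 1 := by
      by_contra hn'
      exact h2 ((pow_dvd_pow p (by omega)).trans (hn ▸ card_subgroup_dvd_card _))
    calc p ^ n ≤ p ^ 1 := Nat.pow_le_pow_right hp.pos this
      _ = p := pow_one p
  have htop : (⊤ : Subgroup G) ≠ ⊥ := fun h => by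
    have : y ∈ (⊥ : Subgroup G) := h ▸ mem_top y
    rw [mem_bot.1 this, orderOf_one] at hy
    exact hp.one_lt.ne hy
  obtain ⟨V, r, -, hVn, hV0, -, hVc, -, -, hVm⟩ :=
    H1.exists_elementary_abelian_normal_le (⊤ : Subgroup G) htop inferInstance
  have hcomm : ∀ x ∈ V, ∀ y ∈ V, x * y = y * x := fun a ha b hb =>
    congrArg Subtype.val (hVc.is_comm.comm (⟨a, ha⟩ : V) ⟨b, hb⟩)
  have hfr := R2.frattini P V (hmin V hV0)
  refine ⟨V, hVn, hV0, ?_, hcomm, hVm, (y : G ⧸ V), ?_, ?_⟩
  · set D : Subgroup G := centralizer (V : Set G) ⊓ normalizer (P : Set G) with hD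
    have hDn : D.Normal := by
      rw [← normalizer_eq_top_iff, eq_top_iff, ← hfr, sup_le_iff]
      constructor
      · intro g hg
        rw [mem_normalizer_iff]
        intro d
        constructor
        · exact fun hd => mem_inf.2 ⟨Normal.conj_mem inferInstance d (mem_inf.1 hd).1 g,
            mul_mem (mul_mem hg (mem_inf.1 hd).2) (inv_mem hg)⟩
        · intro hd
          have e : d = g⁻¹ * (g * d * g⁻¹) * g⁻¹⁻¹ := by group
          rw [e]
          exact mem_inf.2 ⟨Normal.conj_mem inferInstance _ (mem_inf.1 hd).1 g⁻¹,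
            mul_mem (mul_mem (inv_mem hg) (mem_inf.1 hd).2) (inv_mem (inv_mem hg))⟩
      · exact (le_centralizer_iff.1 inf_le_left).trans (centralizer_le_normalizer _)
    have hD0 : D = ⊥ := by
      by_contra h0
      have := R2.frattini P D (hmin D h0)
      rw [sup_eq_left.2 inf_le_right] at this
      exact hPn this
    intro c hc
    have hc' : c ∈ normalizer (P : Set G) ⊔ V := hfr ▸ mem_top c
    obtain ⟨g, hg, v, hv, rfl⟩ := mem_sup_of_normal_right.1 hc'
    have hvC : v ∈ centralizer (V : Set G) := fun w hw => hcomm w hw v hv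
    have hgD : g ∈ D := ⟨by simpa using mul_mem hc (inv_mem hvC), hg⟩
    rw [hD0, mem_bot] at hgD
    rw [hgD, one_mul]
    exact hv
  · refine orderOf_eq_prime ?_ fun h => ?_
    · rw [← QuotientGroup.mk_pow, ← hy, pow_orderOf_eq_one, QuotientGroup.mk_one]
    · refine hPF ?_
      rw [hPy, zpowers_le]
      exact H1.le_fitting_of_isMulCommutative (N := V) ((QuotientGroup.eq_one_iff y).1 h)
  · have := R2.map_normal P V (hmin V hV0)
    rw [hPy, MonoidHom.map_zpowers] at this
    exact this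

end H90.KC
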