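import Mathlib
import Cfsg.Agent.Base
import Cfsg.Agent.Lib.KCl.Defs
import Cfsg.Agent.Lib.BG.S1a
import Cfsg.Agent.Lib.Comp.PConstrained
import Cfsg.Agent.Lib.Core.Fitting

set_option autoImplicit false
set_option linter.unusedSectionVars false

universe u

namespace H90.KC

open Subgroup MulAction H83.Base
open scoped commutatorElement

namespace RED

variable {G : Type*} [Group G] [Finite G]

/-- commutators centralise a cyclic normal subgroup -/
theorem comm_mem_centralizer (K : Subgroup G) [K.Normal] [IsCyclic K] (x y : G) :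
    ⁅x, y⁆ ∈ centralizer (K : Set G) := by
  have h : ∀ a b : MulAut K, a * b = b * a := fun a b =>
    (IsCyclic.mulAutMulEquiv K).injective (by rw [map_mul, map_mul, mul_comm])
  have h1 : (MulAut.conjNormal : G →* MulAut K) ⁅x, y⁆ = 1 := by
    rw [map_commutatorElement, commutatorElement_eq_one_iff_mul_comm]
    exact h _ _
  intro k hk
  have h2 := congrArg (fun f : MulAut K => ((f ⟨k, hk⟩ : K) : G)) h1
  simp only [MulAut.conjNormal_apply, MulAut.one_apply] at h2
  calc k * ⁅x, y⁆ = ⁅x, y⁆ * k * ⁅x, y⁆⁻¹ * ⁅x, y⁆ := by rw [h2]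
    _ = ⁅x, y⁆ * k := by group

theorem index_centralizer_dvd (K : Subgroup G) [K.Normal] :
    (centralizer (K : Set G)).index ∣ Nat.card (MulAut K) := by
  have h : (MulAut.conjNormal : G →* MulAut K).ker = centralizer (K : Set G) := by
    ext g
    rw [MonoidHom.mem_ker, mem_centralizer_iff]
    constructor
    · intro h k hk
      have h2 := congrArg (fun f : MulAut K => ((f ⟨k, hk⟩ : K) : G)) h
      simp only [MulAut.conjNormal_apply, MulAut.one_apply] at h2
      calc k * g = g * k * g⁻¹ * g := by rw [h2]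
        _ = g * k := by group
    · intro h
      ext k
      simp only [MulAut.conjNormal_apply, MulAut.one_apply]
      rw [← h k k.2]; group
  rw [← h, index_ker]
  exact card_subgroup_dvd_card _

/-- the `p`-th powers in an abelian subgroup -/
def pows (F : Subgroup G) (hF : ∀ x ∈ F, ∀ y ∈ F, x * y = y * x) (p : ℕ) : Subgroup G where
  carrier := {z | ∃ y ∈ F, y ^ p = z}
  one_mem' := ⟨1, one_mem _, one_pow _⟩
  mul_mem' := by
    rintro _ _ ⟨a, ha, rfl⟩ ⟨b, hb, rfl⟩
    exact ⟨a * b, mul_mem ha hb, Commute.mul_pow (hF a ha b hb) p⟩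
  inv_mem' := by
    rintro _ ⟨a, ha, rfl⟩
    exact ⟨a⁻¹, inv_mem ha, inv_pow a p⟩

theorem mem_pows {F : Subgroup G} {hF : ∀ x ∈ F, ∀ y ∈ F, x * y = y * x} {p : ℕ} {z : G} :
    z ∈ pows F hF p ↔ ∃ y ∈ F, y ^ p = z := Iff.rfl

theorem pows_normal (F : Subgroup G) [hn : F.Normal] (hF : ∀ x ∈ F, ∀ y ∈ F, x * y = y * x)
    (p : ℕ) : (pows F hF p).Normal := ⟨by
  rintro _ ⟨a, ha, rfl⟩ g
  exact ⟨g * a * g⁻¹, hn.conj_mem a ha g, conj_pow⟩⟩

/-- a subgroup of prime index: generators of the quotient -/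
theorem exists_decomp {N F : Subgroup G} [N.Normal] {p : ℕ} [Fact p.Prime]
    (h : N.relIndex F = p) {x : G} (hx : x ∈ F) (hxN : x ∉ N) {y : G} (hy : y ∈ F) :
    ∃ (i : ℤ), ∃ n ∈ N, y = x ^ i * n := by
  have h1 : ((⟨x, hx⟩ : F) : F ⧸ N.subgroupOf F) ≠ 1 := fun e =>
    hxN (mem_subgroupOf.1 ((QuotientGroup.eq_one_iff _).1 e))
  have h2 : ((⟨y, hy⟩ : F) : F ⧸ N.subgroupOf F) ∈
      zpowers ((⟨x, hx⟩ : F) : F ⧸ N.subgroupOf F) := mem_zpowers_of_prime_card h h1
  obtain ⟨i, hi⟩ := mem_zpowers_iff.1 h2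
  rw [← QuotientGroup.mk_zpow, QuotientGroup.eq] at hi
  refine ⟨i, (x ^ i)⁻¹ * y, by simpa using mem_subgroupOf.1 hi, by group⟩

theorem pow_mem {N F : Subgroup G} [N.Normal] {p : ℕ} (h : N.relIndex F = p) {y : G}
    (hy : y ∈ F) : y ^ p ∈ N := by
  have := Subgroup.pow_index_mem (N.subgroupOf F) ⟨y, hy⟩
  rw [mem_subgroupOf] at this
  exact h ▸ this

theorem force_eq : True := by
  have := @pows.eq_1.{0}
  trivial

end RED

theorem red {G : Type*} [Group G] [Finite G] (hs : Group.IsSolvable G) {p : ℕ} (hp : p.Prime)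
    (h2 : p ^ 2 ∣ Nat.card G) (hmin : ∀ N : Subgroup G, N.Normal → N ≠ ⊥ → ¬ p ^ 2 ∣ N.index) :
    ∃ V : Subgroup G, V.Normal ∧ centralizer (V : Set G) ≤ V ∧
      (∀ x ∈ V, ∀ y ∈ V, x * y = y * x) ∧
      ((Nat.card V = p ^ 2 ∧ ∀ x y : G, ⁅x, y⁆ ∈ V) ∨
        ((∀ x ∈ V, x ^ p = 1) ∧ (∃ n, 2 ≤ n ∧ Nat.card V = p ^ n) ∧
          ∀ K : Subgroup G, K.Normal → K ≤ V → K = ⊥ ∨ K = V)) := by
  haveI : Fact p.Prime := ⟨hp⟩
  have hO : Cfsg.pPrimeCore p G = ⊥ := by
    by_contra h0
    refine hmin _ inferInstance h0 ?_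
    rw [← card_mul_index (Cfsg.pPrimeCore p G)] at h2
    exact (Nat.Coprime.pow_left 2 H1.coprime_card_pPrimeCore.symm).dvd_of_dvd_mul_left h2
  set F := Cfsg.pCore p G with hFdef
  haveI hFn : F.Normal := inferInstance
  have hFp : IsPGroup p F := H1.isPGroup_pCore
  have hCF : centralizer (F : Set G) ≤ F := H1.centralizer_pCore_le_of_isSolvable hO
  have htop : (⊤ : Subgroup G) ≠ ⊥ := fun h => by
    have h3 : Nat.card G = 1 := by rw [← card_top, h, card_bot]
    rw [h3, Nat.dvd_one] at h2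
    exact hp.one_lt.ne' ((Nat.pow_eq_one.1 h2).resolve_right two_ne_zero)
  obtain ⟨N, r, hr, hNn, hN0, -, hNc, hNe, hNp, hNm⟩ :=
    H1.exists_elementary_abelian_normal_le (⊤ : Subgroup G) htop inferInstance
  have hNcomm : ∀ x ∈ N, ∀ y ∈ N, x * y = y * x := fun a ha b hb =>
    congrArg Subtype.val (hNc.is_comm.comm (⟨a, ha⟩ : N) ⟨b, hb⟩)
  obtain rfl : p = r := by
    by_contra hne
    haveI : Fact r.Prime := ⟨hr⟩
    obtain ⟨n, hn⟩ := hNp.exists_card_eq
    refine hN0 (eq_bot_iff.2 (hO ▸ H1.le_pPrimeCore ?_))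
    rw [hn]
    exact Nat.Coprime.pow_left n ((Nat.coprime_primes hr hp).2 (Ne.symm hne))
  have hNF : N ≤ F := H1.le_pCore hNp
  obtain ⟨n, hn⟩ := hNp.exists_card_eq
  have hn0 : n ≠ 0 := fun h => hN0 (card_eq_one.1 (by rw [hn, h, pow_zero]))
  have hidx : N.relIndex F * F.index = N.index := relIndex_mul_index hNF
  obtain ⟨m, hm⟩ : ∃ m, N.relIndex F = p ^ m := hFp.index (N.subgroupOf F)
  have hm1 : m ≤ 1 := by
    by_contra h
    refine hmin N hNn hN0 ?_
    rw [← hidx, hm]
    exact (pow_dvd_pow p (by omega)).mul_right _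
  rcases Nat.le_one_iff_eq_zero_or_eq_one.1 hm1 with rfl | rfl
  · -- `F = N`
    have hFN : F = N := le_antisymm (relIndex_eq_one.1 (by rw [hm, pow_zero])) hNF
    have hCN : centralizer (N : Set G) ≤ N := hFN ▸ hCF
    refine ⟨N, hNn, hCN, hNcomm, Or.inr ⟨hNe, ⟨n, ?_, hn⟩, hNm⟩⟩
    by_contra h
    obtain rfl : n = 1 := by omega
    rw [pow_one] at hn
    haveI : IsCyclic N := isCyclic_of_prime_card hn
    have h3 := RED.index_centralizer_dvd N
    rw [IsCyclic.card_mulAut, hn, Nat.totient_prime hp] at h3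
    have h4 : p ∣ N.index := by
      rw [← card_mul_index N, hn, pow_two] at h2
      exact Nat.dvd_of_mul_dvd_mul_left hp.pos h2
    have h5 := Nat.le_of_dvd (by have := hp.two_le; omega) (h4.trans ((index_dvd_of_le hCN).trans h3))
    have := hp.two_le
    omega
  · rw [pow_one] at hm
    have hpF : ¬ p ∣ F.index := fun h =>
      hmin N hNn hN0 (by rw [← hidx, hm, pow_two]; exact Nat.mul_dvd_mul_left p h)
    have hNC : N ≤ centralizer (F : Set G) := by
      rcases hNm (N ⊓ centralizer (F : Set G)) inferInstance inf_le_left with h | h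
      · exact absurd h (H49.inf_centralizer_ne_bot_of_le_normalizer hFp hNp hN0
          (by rw [normalizer_eq_top_iff.2 hNn]; exact le_top))
      · exact inf_eq_left.1 h
    obtain ⟨x₀, hx₀, hx₀N⟩ : ∃ x ∈ F, x ∉ N := by
      by_contra h
      push Not at h
      exact hp.one_lt.ne' (hm.symm.trans (relIndex_eq_one.2 h))
    have hFc : ∀ x ∈ F, ∀ y ∈ F, x * y = y * x := by
      intro a ha b hb
      obtain ⟨i, c, hc, rfl⟩ := RED.exists_decomp hm hx₀ hx₀N ha
      obtain ⟨j, d, hd, rfl⟩ := RED.exists_decomp hm hx₀ hx₀N hb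
      have e1 : Commute (x₀ ^ j) c := hNC hc _ (zpow_mem hx₀ j)
      have e2 : Commute (x₀ ^ i) d := hNC hd _ (zpow_mem hx₀ i)
      have e3 : Commute c d := hNcomm c hc d hd
      exact ((Commute.zpow_zpow_self x₀ i j).mul_right e2).mul_left (e1.symm.mul_right e3)
    have hcF : Nat.card F = p ^ (n + 1) := by
      rw [← H1.card_mul_relIndex_of_le hNF, hn, hm, pow_succ]
    refine ⟨F, hFn, hCF, hFc, Or.inl ?_⟩
    by_cases he : ∀ x ∈ F, x ^ p = 1
    · -- elementary: split by Maschke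
      obtain ⟨A, hA⟩ := exists_right_complement'_of_coprime (N := F)
        (by rw [hcF]; exact Nat.Coprime.pow_left _ ((Nat.Prime.coprime_iff_not_dvd hp).2 hpF))
      have hAc : Nat.card A = F.index := hA.symm.index_eq_card.symm
      have hFe : Cfsg.IsElementaryAbelian p F :=
        ⟨⟨⟨fun a b => Subtype.ext (hFc a a.2 b b.2)⟩⟩, he⟩
      obtain ⟨M, ⟨hM1, -, hM3⟩, hM4⟩ := H45.BG.Maschke_abelem (A := A) hFe
        (H1.isPiSubgroup_compl_singleton_iff.2
          (by rw [hAc]; exact ((Nat.Prime.coprime_iff_not_dvd hp).2 hpF).symm)) hNF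
        (by rw [normalizer_eq_top_iff.2 hFn]; exact le_top)
        (by rw [normalizer_eq_top_iff.2 hNn]; exact le_top)
      have hMF : M ≤ F := hM1 ▸ le_sup_right
      haveI hMn : M.Normal := by
        rw [← normalizer_eq_top_iff, eq_top_iff, ← hA.sup_eq_top, sup_le_iff]
        refine ⟨le_trans ?_ (centralizer_le_normalizer _), hM4⟩
        exact fun a ha b hb => hFc b (hMF hb) a ha
      have hcM : Nat.card M = p := by
        have h3 := H1.card_sup_mul_card_inf_of_normal N M
        rw [hM1, hM3, card_bot, mul_one, hcF, hn, pow_succ] at h3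
        exact (Nat.eq_of_mul_eq_mul_left (pow_pos hp.pos n) h3).symm
      have hM0 : M ≠ ⊥ := fun h => by
        rw [h, card_bot] at hcM
        exact hp.one_lt.ne hcM
      have hn1 : n = 1 := by
        by_contra h
        refine hmin M hMn hM0 ?_
        have h3 : p * M.index = p * (p ^ n * F.index) := by
          rw [← mul_assoc, ← pow_succ', ← hcF, card_mul_index, ← hcM, card_mul_index]
        rw [Nat.eq_of_mul_eq_mul_left hp.pos h3]
        exact (pow_dvd_pow p (by omega)).mul_right _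
      subst hn1
      haveI : IsCyclic N := isCyclic_of_prime_card (hn.trans (pow_one p))
      haveI : IsCyclic M := isCyclic_of_prime_card hcM
      refine ⟨hcF, fun x y => hCF ?_⟩
      have h3 : F ≤ centralizer {⁅x, y⁆} := by
        rw [← hM1, sup_le_iff]
        exact ⟨fun a ha => mem_centralizer_singleton_iff.2 (RED.comm_mem_centralizer N x y a ha),
          fun a ha => mem_centralizer_singleton_iff.2 (RED.comm_mem_centralizer M x y a ha)⟩
      exact fun a ha => mem_centralizer_singleton_iff.1 (h3 ha)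
    · -- cyclic
      push Not at he
      obtain ⟨x, hx, hxp⟩ := he
      have hxN : x ∉ N := fun h => hxp (hNe x h)
      have hP : RED.pows F hFc p = N := by
        refine (hNm _ (RED.pows_normal F hFc p) ?_).resolve_left fun h => ?_
        · rintro _ ⟨y, hy, rfl⟩
          exact RED.pow_mem hm hy
        · exact hxp (mem_bot.1 (h ▸ RED.mem_pows.2 ⟨x, hx, rfl⟩))
      have hNx : N = zpowers (x ^ p) := by
        refine le_antisymm (fun z hz => ?_) (zpowers_le.2 (RED.pow_mem hm hx))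
        rw [← hP] at hz
        obtain ⟨y, hy, rfl⟩ := hz
        obtain ⟨i, c, hc, rfl⟩ := RED.exists_decomp hm hx hxN hy
        have e : Commute (x ^ i) c := hNC hc _ (zpow_mem hx i)
        have e' : (x ^ i) ^ p = (x ^ p) ^ i := by
          rw [← zpow_natCast, ← zpow_natCast, ← zpow_mul, ← zpow_mul, mul_comm]
        rw [e.mul_pow, hNe c hc, mul_one, e']
        exact zpow_mem (mem_zpowers _) i
      have hFx : F = zpowers x := by
        refine le_antisymm (fun y hy => ?_) (zpowers_le.2 hx)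
        obtain ⟨i, c, hc, rfl⟩ := RED.exists_decomp hm hx hxN hy
        refine mul_mem (zpow_mem (mem_zpowers x) i) ?_
        rw [hNx] at hc
        exact zpowers_le.2 (pow_mem (mem_zpowers x) p) hc
      have hcN : Nat.card N = p := by
        rw [hNx, Nat.card_zpowers]
        exact orderOf_eq_prime (hNe _ (RED.pow_mem hm hx)) hxp
      haveI : IsCyclic F := by rw [hFx]; infer_instance
      refine ⟨by rw [← H1.card_mul_relIndex_of_le hNF, hcN, hm, pow_two], fun a b => hCF ?_⟩
      exact RED.comm_mem_centralizer F a b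

end H90.KC
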